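import Cfsg.Agent.Lib.OrthMinIndex.Geometry
import Cfsg.Agent.Lib.Classical.QuadPOmega

/-!
# Invariant pairings and cosets of the Eichler group

Pairings on a quadratic space invariant under the Eichler transformations factor through the polar form,
and modulo the Eichler transformations the automorphism group is generated by central involutions.
-/

set_option autoImplicit false

namespace CfsgLib.Known.OrthLift

open CfsgLib.Classical CfsgLib.OrthMinIndex

universe u v

variable {F : Type u} [Field F] {V : Type v} [AddCommGroup V] [Module F V] {Q : QuadraticForm F V}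

local notation "pl" => QuadraticMap.polar Q

theorem act_add (g : eichGroup Q) (x y : V) : act g (x + y) = act g x + act g y :=
  map_add (g : qAut Q).1 x y

theorem act_smul (g : eichGroup Q) (t : F) (x : V) : act g (t • x) = t • act g x :=
  map_smul (g : qAut Q).1 t x

theorem act_zero (g : eichGroup Q) : act g (0 : V) = 0 := map_zero (g : qAut Q).1

theorem act_neg (g : eichGroup Q) (x : V) : act g (-x) = -act g x := map_neg (g : qAut Q).1 x

theorem act_ext {g h : eichGroup Q} (H : ∀ x, act g x = act h x) : g = h :=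
  Subtype.ext (qAut_ext H)

variable [Fintype F] [FiniteDimensional F V]

/-- Every vector is the sum of two singular vectors. -/
theorem exists_sum_singular (hQ : PolarNondeg Q) (hn : 3 ≤ Module.finrank F V) (v : V) :
    ∃ a b, Q a = 0 ∧ Q b = 0 ∧ v = a + b := by
  rcases eq_or_ne v 0 with rfl | hv
  · exact ⟨0, 0, map_zero _, map_zero _, (add_zero 0).symm⟩
  obtain ⟨w, hw, hwv⟩ := exists_singular_polar Q hQ hn hv
  refine ⟨v - (Q v / pl w v) • w, (Q v / pl w v) • w, ?_, by rw [quad_smul, hw, mul_zero], by abel⟩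
  rw [quad_sub, quad_smul, hw, QuadraticMap.polar_smul_right, QuadraticMap.polar_comm Q v w, smul_eq_mul,
    mul_zero, add_zero, div_mul_cancel₀ _ hwv, sub_self]

/-- An invariant alternating pairing factors through the polar form. -/
theorem exists_psi (hQ : PolarNondeg Q) (hn : 4 ≤ Module.finrank F V) {A : Type*} [AddCommGroup A]
    (B : V →+ V →+ A) (hinv : ∀ (g : eichGroup Q) (x y : V), B (act g x) (act g y) = B x y)
    (halt : ∀ x, B x x = 0) :
    ∃ ψ : F →+ A, (∀ x y, B x y = ψ (pl x y)) ∧ ∀ c, ψ c + ψ c = 0 := by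
  obtain ⟨e, he0, he⟩ := exists_singular Q hQ (by omega)
  obtain ⟨f, hef⟩ := exists_pair hQ he he0
  let ψ : F →+ A := AddMonoidHom.mk' (fun c => B e (c • f)) fun a b => by
    simp only [add_smul, map_add]
  -- a singular vector pairs trivially with its perp
  have hperp : ∀ x, Q x = 0 → ∀ y, pl x y = 0 → B x y = 0 := by
    intro x hx y hy
    rcases eq_or_ne x 0 with rfl | hx0
    · simp
    obtain ⟨z, hp⟩ := exists_pair hQ hx hx0
    -- multiples of `x`
    have hmul : ∀ c : F, B x (c • x) = 0 := by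
      intro c
      have hside : 3 ≤ Module.finrank F (side Q x z) ∨ Module.finrank F (side Q x z) = 2 := by
        have := finrank_side hp; omega
      obtain ⟨a, b, hab, hax, hbx⟩ : ∃ a b : V, pl a b = 1 ∧ pl x a = 0 ∧ pl x b = 0 := by
        obtain ⟨w, hw⟩ : ∃ w : side Q x z, w ≠ 0 := by
          by_contra hc
          push Not at hc
          have : Subsingleton (side Q x z) := ⟨fun p q => by rw [hc p, hc q]⟩
          have := Module.finrank_zero_of_subsingleton (R := F) (M := side Q x z)
          omega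
        obtain ⟨y', hy'⟩ : ∃ y' : side Q x z, pl (w : V) (y' : V) ≠ 0 := by
          by_contra hc
          push Not at hc
          exact hw (Subtype.ext (side_perp_eq_zero hQ hp w.2 fun y hy => hc ⟨y, hy⟩))
        exact ⟨w, (pl (w : V) (y' : V))⁻¹ • (y' : V),
          by rw [QuadraticMap.polar_smul_right, smul_eq_mul, inv_mul_cancel₀ hy'],
          (mem_side.1 w.2).1, by rw [QuadraticMap.polar_smul_right, (mem_side.1 y'.2).1, smul_zero]⟩
      have hcb : pl x (c • b) = 0 := by rw [QuadraticMap.polar_smul_right, hbx, smul_zero]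
      have key := hinv (eG Q x (c • b)) x a
      rw [eG_fix hx hcb, eG_apply hx hcb, (QuadraticMap.polar_comm Q a x).trans hax, zero_smul,
        add_zero, mul_zero, add_zero, QuadraticMap.polar_smul_right, hab, smul_eq_mul, mul_one, map_sub,
        sub_eq_self] at key
      exact key
    have key := hinv (eG Q x y) x z
    rw [eG_fix hx hy, eG_apply hx hy, hp.zu, one_smul, map_sub, map_add, hmul, sub_zero,
      add_eq_left] at key
    exact key
  have hsing : ∀ x, Q x = 0 → ∀ y, B x y = ψ (pl x y) := by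
    intro x hx y
    rcases eq_or_ne x 0 with rfl | hx0
    · simp
    obtain ⟨z, hp⟩ := exists_pair hQ hx hx0
    obtain ⟨g, hg, hge, hgf⟩ := exists_move_pair Q hQ hn hef.qu hef.qz hef.uz hp.qu hp.qz hp.uz
    have h0 : B x (y - pl x y • z) = 0 := hperp x hx _ (by
      rw [QuadraticMap.polar_sub_right, QuadraticMap.polar_smul_right, hp.uz, smul_eq_mul, mul_one, sub_self])
    rw [map_sub, sub_eq_zero] at h0
    rw [h0]
    have key := hinv ⟨g, hg⟩ e (pl x y • f)
    rw [act_smul, show act ⟨g, hg⟩ e = x from hge, show act ⟨g, hg⟩ f = z from hgf] at key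
    exact key
  have hall : ∀ x y, B x y = ψ (pl x y) := by
    intro x y
    obtain ⟨a, b, ha, hb, rfl⟩ := exists_sum_singular hQ (by omega) x
    rw [map_add, AddMonoidHom.add_apply, hsing a ha, hsing b hb, QuadraticMap.polar_add_left, map_add]
  refine ⟨ψ, hall, fun c => ?_⟩
  have h := halt (e + c • f)
  simp only [map_add, AddMonoidHom.add_apply, halt, zero_add, add_zero] at h
  rw [hall, hall, QuadraticMap.polar_smul_left, QuadraticMap.polar_smul_right, hef.uz, hef.zu, smul_eq_mul,
    mul_one] at h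
  exact h

/-- Modulo the Eichler transformations the reflections are central. -/
theorem refl_central (hQ : PolarNondeg Q) (hn : 4 ≤ Module.finrank F V) [(eichGroup Q).Normal] (g : qAut Q)
    {v : V} (hv : Q v ≠ 0) :
    (g : qAut Q ⧸ eichGroup Q) * (qRefl Q hv) = (qRefl Q hv) * g := by
  have hgv : Q (g.1 v) ≠ 0 := by rwa [qAut_map]
  obtain ⟨s, hs, hsv⟩ := exists_move_level Q hQ hn hv (qAut_map g v).symm
  have hsv' : Q (s.1 v) ≠ 0 := by rwa [qAut_map]
  have e : g * qRefl Q hv * g⁻¹ = s * qRefl Q hv * s⁻¹ := by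
    rw [qRefl_conj Q g hv hgv, qRefl_conj Q s hv hsv']
    congr 1
    exact hsv.symm
  have e' := congrArg (fun x : qAut Q => (x : qAut Q ⧸ eichGroup Q)) e
  simp only [QuotientGroup.mk_mul, QuotientGroup.mk_inv, (QuotientGroup.eq_one_iff s).2 hs, one_mul, inv_one,
    mul_one] at e'
  exact mul_inv_eq_iff_eq_mul.1 e'

/-- Squares of automorphisms lie in the Eichler group. -/
theorem sq_mem_eichGroup (hQ : PolarNondeg Q) (hn : 4 ≤ Module.finrank F V)
    (hex : Fintype.card F ≠ 2 ∨ Module.finrank F V ≠ 4) (g : qAut Q) : g * g ∈ eichGroup Q := by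
  haveI := eichGroup_normal Q
  have h : ∀ g ∈ reflGroup Q, (g : qAut Q ⧸ eichGroup Q) ∈ Subgroup.center (qAut Q ⧸ eichGroup Q) ∧
      (g : qAut Q ⧸ eichGroup Q) * g = 1 := by
    intro g hg
    induction hg using Subgroup.closure_induction with
    | mem x hx =>
      obtain ⟨v, hv, rfl⟩ := hx
      refine ⟨Subgroup.mem_center_iff.2 fun y => ?_, ?_⟩
      · obtain ⟨y, rfl⟩ := QuotientGroup.mk_surjective y
        exact refl_central hQ hn y hv
      · rw [← QuotientGroup.mk_mul, qRefl_mul_self]; rfl
    | one => exact ⟨one_mem _, mul_one _⟩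
    | mul a b _ _ ha hb =>
      rw [QuotientGroup.mk_mul]
      refine ⟨mul_mem ha.1 hb.1, ?_⟩
      calc (a : qAut Q ⧸ eichGroup Q) * b * (a * b) = a * ((b : qAut Q ⧸ eichGroup Q) * a) * b := by group
        _ = a * a * (b * b) := by rw [Subgroup.mem_center_iff.1 ha.1 b]; group
        _ = 1 := by rw [ha.2, hb.2, one_mul]
    | inv a _ ha =>
      rw [QuotientGroup.mk_inv]
      exact ⟨inv_mem ha.1, by rw [← mul_inv_rev, ha.2, inv_one]⟩
  rw [← QuotientGroup.eq_one_iff, QuotientGroup.mk_mul]
  exact (h g (reflGroup_eq_top Q hQ hex ▸ Subgroup.mem_top g)).2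

omit [Fintype F] [FiniteDimensional F V] in
theorem two_scalars (h2 : ∀ c : F, c = 0 ∨ c = 1) {a : F} (ha : a ≠ 0) : a = 1 := (h2 a).resolve_left ha

/-- Over the field with two elements a single reflection covers the Eichler group's cosets. -/
theorem mem_or_refl_mul_mem (hQ : PolarNondeg Q) (hn : 4 ≤ Module.finrank F V)
    (h2 : ∀ c : F, c = 0 ∨ c = 1) (hgen : reflGroup Q ⊔ eichGroup Q = ⊤) {v : V} (hv : Q v ≠ 0) (g : qAut Q) :
    g ∈ eichGroup Q ∨ qRefl Q hv * g ∈ eichGroup Q := by
  haveI := eichGroup_normal Q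
  have hall : ∀ (w : V) (hw : Q w ≠ 0),
      (qRefl Q hw : qAut Q ⧸ eichGroup Q) = (qRefl Q hv : qAut Q ⧸ eichGroup Q) := by
    intro w hw
    obtain ⟨s, hs, hsv⟩ := exists_move_level Q hQ hn hv
      (show Q v = Q w by rw [two_scalars h2 hv, two_scalars h2 hw])
    have hsv' : Q (s.1 v) ≠ 0 := by rwa [qAut_map]
    have e : qRefl Q hw = s * qRefl Q hv * s⁻¹ := by
      rw [qRefl_conj Q s hv hsv']
      congr 1
      exact hsv.symm
    rw [e]
    simp only [QuotientGroup.mk_mul, QuotientGroup.mk_inv, (QuotientGroup.eq_one_iff s).2 hs, one_mul, inv_one,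
      mul_one]
  have hr : (qRefl Q hv : qAut Q ⧸ eichGroup Q) * qRefl Q hv = 1 := by
    rw [← QuotientGroup.mk_mul, qRefl_mul_self]; rfl
  let S : Subgroup (qAut Q) :=
    { carrier := {g | (g : qAut Q ⧸ eichGroup Q) = 1 ∨ (g : qAut Q ⧸ eichGroup Q) = qRefl Q hv}
      one_mem' := Or.inl rfl
      mul_mem' := by
        rintro a b (ha | ha) (hb | hb) <;>
          simp only [Set.mem_setOf_eq, QuotientGroup.mk_mul, ha, hb, hr, one_mul, mul_one, true_or, or_true]
      inv_mem' := by
        rintro a (ha | ha)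
        · exact Or.inl (by rw [QuotientGroup.mk_inv, ha, inv_one])
        · exact Or.inr (by rw [QuotientGroup.mk_inv, ha]; exact inv_eq_of_mul_eq_one_right hr) }
  have hle : reflGroup Q ⊔ eichGroup Q ≤ S :=
    sup_le ((Subgroup.closure_le _).2 fun x ⟨w, hw, hx⟩ => Or.inr (hx ▸ hall w hw))
      fun x hx => Or.inl ((QuotientGroup.eq_one_iff x).2 hx)
  rcases (hle (hgen ▸ Subgroup.mem_top g) : g ∈ S) with h | h
  · exact Or.inl ((QuotientGroup.eq_one_iff g).1 h)
  · refine Or.inr ((QuotientGroup.eq_one_iff _).1 ?_)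
    rw [QuotientGroup.mk_mul, h, hr]

end CfsgLib.Known.OrthLift
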