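import Cfsg.Agent.Lib.Known.OrthLift.Sylow
import Cfsg.Agent.Lib.Known.SplitLift.Pull
import Cfsg.Agent.Lib.Classical.QuadSiegel
import Cfsg.Agent.Lib.Classical.QuadOmega
import Cfsg.Prelude.Def_KGroupFacts

/-!
# The groups `Ω` in coordinates
-/

set_option autoImplicit false
set_option linter.unusedSectionVars false

namespace CfsgLib.Known.OrthLift

open CfsgLib.Classical CfsgLib.OrthMinIndex
open Matrix Cfsg

universe u

variable {F : Type u} [Field F] [Fintype F] {ι : Type} [Fintype ι] [DecidableEq ι]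
  {Q : QuadraticForm F (ι → F)}

/-- The coordinate group and the Eichler group. -/
noncomputable def omegaEquiv (hQ : PolarNondeg Q) (hn : 5 ≤ Fintype.card ι) :
    Omega F ⇑Q ≃* eichGroup Q :=
  ((isoEquiv Q).subgroupMap (Omega F ⇑Q)).trans (MulEquiv.subgroupCongr (by
    rw [eichGroup_eq_commutator Q hQ (by rwa [Module.finrank_pi])]
    exact map_commutator_equiv (isoEquiv Q)))

theorem commutator_eich_eq_top (hQ : PolarNondeg Q) (hn : 5 ≤ Fintype.card ι) :
    commutator (eichGroup Q) = ⊤ := by
  refine Subgroup.map_injective (f := (eichGroup Q).subtype) Subtype.val_injective ?_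
  rw [commutator_def, Subgroup.map_commutator, ← MonoidHom.range_eq_map, Subgroup.range_subtype]
  exact eichGroup_perfect Q hQ (by rwa [Module.finrank_pi])

theorem commutator_omega_eq_top (hQ : PolarNondeg Q) (hn : 5 ≤ Fintype.card ι) :
    commutator (Omega F ⇑Q) = ⊤ := by
  have h : (commutator (eichGroup Q)).map (omegaEquiv hQ hn).symm.toMonoidHom =
      (⊤ : Subgroup (eichGroup Q)).map (omegaEquiv hQ hn).symm.toMonoidHom := by
    rw [commutator_eich_eq_top hQ hn]
  rw [commutator_def, Subgroup.map_commutator,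
    Subgroup.map_top_of_surjective _ (omegaEquiv hQ hn).symm.surjective] at h
  exact h

/-- Stem extensions of `Ω` with `p`-kernels are trivial. -/
theorem omega_stem_pgroup (hQ : PolarNondeg Q) (hn : 6 ≤ Fintype.card ι) {p : ℕ} (hp : p.Prime)
    [CharP F p] (hsmall : Fintype.card F ≤ 3 → 8 ≤ Fintype.card ι) (hN : NoFour Q) {m : ℕ}
    (P : Frame Q m) {c : ℕ}
    (hcard : Nat.card (eichGroup Q) = Fintype.card F ^ (m * (Fintype.card ι - m - 1)) * c)
    (hpc : ¬ p ∣ c) (E : Type u) [Group E] [Finite E] (σ : E →* Omega F ⇑Q)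
    (hσ : Cfsg.IsStemExtension σ) (hk : IsPGroup p σ.ker) : ∀ z ∈ σ.ker, z = 1 := by
  have hfr : Module.finrank F (ι → F) = Fintype.card ι := Module.finrank_pi F
  have hn5 : 5 ≤ Fintype.card ι := by omega
  let τ : E →* eichGroup Q := (omegaEquiv hQ hn5).toMonoidHom.comp σ
  have hτ : τ.ker = σ.ker := by ext x; simp [τ, MonoidHom.mem_ker]
  have hx : PExt τ p := ⟨(omegaEquiv hQ hn5).surjective.comp hσ.1, hτ ▸ hσ.2.1, hτ ▸ hk⟩
  intro z hz
  exact ker_commutator_eq_one hQ (hfr ▸ hn) hp (hfr ▸ hsmall) hN P (by rw [hfr]; exact hcard) hpc hx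
    z (hτ ▸ hz) (hσ.2.2 hz)

/-- The order of an Eichler group from that of the orthogonal group. -/
theorem card_eich_mul_index (hQ : PolarNondeg Q) (hn : 5 ≤ Fintype.card ι) :
    Nat.card (eichGroup Q) * (commutator (qAut Q)).index = Nat.card (qAut Q) := by
  rw [eichGroup_eq_commutator Q hQ (by rwa [Module.finrank_pi])]
  exact Subgroup.card_mul_index _

/-- The stem extensions of `PΩ` are bounded by those of `Ω` and the centre. -/
theorem stem_card_le_pomega (hQ : PolarNondeg Q) (hn : 5 ≤ Fintype.card ι) {N : ℕ}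
    (hN : ∀ (E : Type u) [Group E] [Finite E] (σ : E →* Omega F ⇑Q), Cfsg.IsStemExtension σ →
      Nat.card σ.ker ≤ N)
    (E : Type u) [Group E] [Finite E] (σ : E →* POmega F ⇑Q) (hσ : Cfsg.IsStemExtension σ) :
    Nat.card σ.ker ≤ N * Nat.card (Subgroup.center (Omega F ⇑Q)) := by
  have hω := commutator_omega_eq_top hQ hn
  have hP : commutator (POmega F ⇑Q) = ⊤ := by
    have := congrArg (Subgroup.map (QuotientGroup.mk' (Subgroup.center (Omega F ⇑Q)))) hω
    rwa [commutator_def, Subgroup.map_commutator,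
      Subgroup.map_top_of_surjective _ (QuotientGroup.mk'_surjective _), ← commutator_def] at this
  have h := SplitLift.stem_card_le_quot hP hω (QuotientGroup.mk' (Subgroup.center (Omega F ⇑Q)))
    (QuotientGroup.mk'_surjective _) (by rw [QuotientGroup.ker_mk']) hN E σ hσ
  rwa [QuotientGroup.ker_mk'] at h

/-- A bound on totally singular subspaces excludes four pairs. -/
theorem noFour_of_witt {V : Type*} [AddCommGroup V] [Module F V] {Q : QuadraticForm F V}
    (h : ∀ u v w x : V, LinearIndependent F ![u, v, w, x] →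
      (∀ c : Fin 4 → F, Q (∑ i, c i • ![u, v, w, x] i) = 0) → False) : NoFour Q := by
  intro _ _ _ u z hp e f hp' s t hp'' w hw
  by_contra hne
  have p1 := mem_side.1 (e : side Q u z).2
  have p2 := mem_side.1 (f : side Q u z).2
  have q1 := mem_side.1 (s : side (sideQ Q u z) e f).2
  have q2 := mem_side.1 (t : side (sideQ Q u z) e f).2
  have p3 := mem_side.1 (s.1 : side Q u z).2
  have p4 := mem_side.1 (t.1 : side Q u z).2
  have r := mem_side.1 w.2
  have q3 := mem_side.1 (w.1 : side (sideQ Q u z) e f).2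
  have p5 := mem_side.1 (w.1.1 : side Q u z).2
  refine h u e s.1.1 w.1.1.1 ?_ ?_
  · rw [Fintype.linearIndependent_iff]
    intro g hg
    simp only [Fin.sum_univ_four, Matrix.cons_val_zero, Matrix.cons_val_one, Matrix.cons_val,
      Matrix.head_cons] at hg
    have P : ∀ y : V, g 0 * QuadraticMap.polar Q u y + g 1 * QuadraticMap.polar Q e.1 y +
        g 2 * QuadraticMap.polar Q s.1.1 y + g 3 * QuadraticMap.polar Q w.1.1.1 y = 0 := fun y => by
      have := congrArg (fun x => QuadraticMap.polar Q x y) hg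
      simpa [QuadraticMap.polar_add_left, QuadraticMap.polar_smul_left] using this
    have e0 : g 0 = 0 := by
      have := P z
      rwa [hp.uz, QuadraticMap.polar_comm Q _ z, p1.2, QuadraticMap.polar_comm Q _ z, p3.2,
        QuadraticMap.polar_comm Q _ z, p5.2, mul_one, mul_zero, mul_zero, mul_zero, add_zero, add_zero,
        add_zero] at this
    have e1 : g 1 = 0 := by
      have := P f.1
      rwa [e0, zero_mul, zero_add, show QuadraticMap.polar Q e.1 f.1 = 1 from hp'.uz,
        show QuadraticMap.polar Q s.1.1 f.1 = 0 by rw [QuadraticMap.polar_comm]; exact q1.2,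
        show QuadraticMap.polar Q w.1.1.1 f.1 = 0 by rw [QuadraticMap.polar_comm]; exact q3.2,
        mul_one, mul_zero, mul_zero, add_zero, add_zero] at this
    have e2 : g 2 = 0 := by
      have := P t.1.1
      rwa [e0, e1, zero_mul, zero_mul, zero_add, zero_add,
        show QuadraticMap.polar Q s.1.1 t.1.1 = 1 from hp''.uz,
        show QuadraticMap.polar Q w.1.1.1 t.1.1 = 0 by rw [QuadraticMap.polar_comm]; exact r.2,
        mul_one, mul_zero, add_zero] at this
    have e3 : g 3 = 0 := by
      rw [e0, e1, e2, zero_smul, zero_smul, zero_smul, zero_add, zero_add, zero_add, smul_eq_zero] at hg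
      refine hg.resolve_right fun hw0 => hne ?_
      exact Subtype.ext (Subtype.ext (Subtype.ext hw0))
    intro i
    fin_cases i <;> assumption
  · intro c
    have a1 : QuadraticMap.polar Q u e.1 = 0 := p1.1
    have a2 : QuadraticMap.polar Q u s.1.1 = 0 := p3.1
    have a3 : QuadraticMap.polar Q u w.1.1.1 = 0 := p5.1
    have a4 : QuadraticMap.polar Q e.1 s.1.1 = 0 := q1.1
    have a5 : QuadraticMap.polar Q e.1 w.1.1.1 = 0 := q3.1
    have a6 : QuadraticMap.polar Q s.1.1 w.1.1.1 = 0 := r.1
    have b1 : Q e.1 = 0 := hp'.qu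
    have b2 : Q s.1.1 = 0 := hp''.qu
    have b3 : Q w.1.1.1 = 0 := hw
    simp only [Fin.sum_univ_four, Matrix.cons_val_zero, Matrix.cons_val_one, Matrix.cons_val,
      Matrix.head_cons]
    rw [quad_add, quad_add, quad_add]
    simp [quad_smul, QuadraticMap.polar_add_left, QuadraticMap.polar_smul_left,
      QuadraticMap.polar_smul_right, hp.qu, a1, a2, a3, a4, a5, a6, b1, b2, b3]

end CfsgLib.Known.OrthLift
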