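import Cfsg.Agent.Lib.Known.OrthLift.Intrinsic

/-!
# Functions of singular vectors additive on totally singular pairs

Over the fields with two and three elements such a function is the restriction of an additive map.
-/

set_option autoImplicit false

namespace CfsgLib.Known.OrthLift

open CfsgLib.Classical CfsgLib.OrthMinIndex

universe u v w

variable {F : Type u} [Field F] {V : Type v} [AddCommGroup V] [Module F V] {Q : QuadraticForm F V}
  {A : Type w} [AddCommGroup A]

local notation "pl" => QuadraticMap.polar Q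

variable (Q) in
/-- Additivity on orthogonal pairs of singular vectors. -/
def OA (κ : V → A) : Prop := ∀ x y, Q x = 0 → Q y = 0 → QuadraticMap.polar Q x y = 0 → κ (x + y) = κ x + κ y

namespace OA

variable {κ : V → A} (h : OA Q κ)
include h

theorem zero : κ 0 = 0 := by
  have h0 := h 0 0 (map_zero Q) (map_zero Q) (QuadraticMap.polar_zero_left Q 0)
  rw [add_zero] at h0
  exact left_eq_add.1 h0

theorem neg {x : V} (hx : Q x = 0) : κ (-x) = -κ x := by
  have h0 := h x (-x) hx (by rw [QuadraticMap.map_neg, hx])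
    (by rw [QuadraticMap.polar_neg_right, quad_polar_self, hx, mul_zero, neg_zero])
  rw [add_neg_cancel, h.zero] at h0
  exact (neg_eq_of_add_eq_zero_right h0.symm).symm

theorem smul_add {x : V} (hx : Q x = 0) (s t : F) : κ ((s + t) • x) = κ (s • x) + κ (t • x) := by
  rw [add_smul]
  refine h _ _ (by rw [quad_smul, hx, mul_zero]) (by rw [quad_smul, hx, mul_zero]) ?_
  rw [QuadraticMap.polar_smul_left, QuadraticMap.polar_smul_right, quad_polar_self, hx]
  simp

theorem double {x : V} (hx : Q x = 0) : κ ((2 : F) • x) = κ x + κ x := by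
  rw [show (2 : F) = 1 + 1 by norm_num, h.smul_add hx, one_smul]

theorem triple {x : V} (hx : Q x = 0) : κ ((3 : F) • x) = κ x + κ x + κ x := by
  rw [show (3 : F) = 2 + 1 by norm_num, h.smul_add hx, h.double hx, one_smul]

end OA

variable (Q) in
/-- The component in the complement of a pair. -/
noncomputable def sideProj {a b : V} (h : SingPair Q a b) : V →ₗ[F] side Q a b :=
  LinearMap.codRestrict (side Q a b)
    (LinearMap.id - ((QuadraticMap.polarBilin Q).flip b).smulRight a -
      ((QuadraticMap.polarBilin Q).flip a).smulRight b)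
    fun x => by
      obtain ⟨h1, h2⟩ := proj_pair Q h.qu h.qz h.uz x
      refine mem_side.2 ⟨?_, ?_⟩ <;> rw [QuadraticMap.polar_comm] <;>
        simp only [LinearMap.sub_apply, LinearMap.id_apply, LinearMap.smulRight_apply, LinearMap.flip_apply,
          QuadraticMap.polarBilin_apply_apply]
      · exact h1
      · exact h2

theorem sideProj_spec {a b : V} (h : SingPair Q a b) (x : V) :
    x = pl x b • a + pl x a • b + (sideProj Q h x : V) := by
  simp [sideProj]

theorem quad_coord {a b : V} (h : SingPair Q a b) (s t : F) (c : side Q a b) :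
    Q (s • a + t • b + (c : V)) = s * t + Q (c : V) := by
  obtain ⟨h1, h2⟩ := mem_side.1 c.2
  rw [quad_add, quad_add, quad_smul, quad_smul, h.qu, h.qz, QuadraticMap.polar_add_left,
    QuadraticMap.polar_smul_left, QuadraticMap.polar_smul_left, QuadraticMap.polar_smul_right,
    QuadraticMap.polar_smul_left, h.uz, h1, h2]
  simp

/-- In an isotropic space every vector is the sum of two singular vectors. -/
theorem exists_sum_of_pair (hQ : PolarNondeg Q) {s t : V} (hst : SingPair Q s t) (v : V) :
    ∃ a b, Q a = 0 ∧ Q b = 0 ∧ v = a + b := by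
  have key : ∀ w, Q w = 0 → pl w v ≠ 0 → ∃ a b, Q a = 0 ∧ Q b = 0 ∧ v = a + b := by
    intro w hw hwv
    refine ⟨v - (Q v / pl w v) • w, (Q v / pl w v) • w, ?_, by rw [quad_smul, hw, mul_zero], by abel⟩
    rw [quad_sub, quad_smul, hw, QuadraticMap.polar_smul_right, QuadraticMap.polar_comm Q v w, smul_eq_mul,
      mul_zero, add_zero, div_mul_cancel₀ _ hwv, sub_self]
  rcases eq_or_ne v 0 with rfl | hv
  · exact ⟨0, 0, map_zero _, map_zero _, (add_zero 0).symm⟩
  by_cases hs : pl s v = 0
  swap
  · exact key s hst.qu hs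
  by_cases ht : pl t v = 0
  swap
  · exact key t hst.qz ht
  obtain ⟨y, hy⟩ : ∃ y, pl v y ≠ 0 := by
    by_contra hc
    push Not at hc
    exact hv (hQ v hc)
  refine key ((1 : F) • s + (-Q (sideProj Q hst y : V)) • t + (sideProj Q hst y : V)) ?_ ?_
  · rw [quad_coord hst]; ring
  · rw [QuadraticMap.polar_add_left, QuadraticMap.polar_add_left, QuadraticMap.polar_smul_left,
      QuadraticMap.polar_smul_left, hs, ht, smul_zero, smul_zero, zero_add, zero_add]
    have hyd := sideProj_spec hst y
    rw [hyd, QuadraticMap.polar_add_right, QuadraticMap.polar_add_right, QuadraticMap.polar_smul_right,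
      QuadraticMap.polar_smul_right, QuadraticMap.polar_comm Q v s, hs, QuadraticMap.polar_comm Q v t,
      ht] at hy
    rw [QuadraticMap.polar_comm]
    simpa using hy

/-- An additive map on the complement of a pair extends to the whole space. -/
theorem extend_linear (hQ : PolarNondeg Q) [FiniteDimensional F V] {κ : V → A} (h : OA Q κ) {a b : V}
    (hp : SingPair Q a b) {s t : side Q a b} (hst : SingPair (Q.comp (side Q a b).subtype) s t)
    (L : side Q a b →+ A) (hL : ∀ c : side Q a b, Q (c : V) = 0 → L c = κ c) :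
    ∃ M : V →+ A, ∀ x, Q x = 0 → M x = κ x := by
  refine ⟨AddMonoidHom.mk' (fun x => κ (pl x b • a) + κ (pl x a • b) + L (sideProj Q hp x)) fun x y => ?_,
    fun x hx => ?_⟩
  · simp only [QuadraticMap.polar_add_left, h.smul_add hp.qu, h.smul_add hp.qz, map_add]
    abel
  change κ (pl x b • a) + κ (pl x a • b) + L (sideProj Q hp x) = κ x
  obtain ⟨w₁, w₂, hw₁, hw₂, hw⟩ := exists_sum_of_pair (polarNondeg_side hQ hp) hst (sideProj Q hp x)
  change Q (w₁ : V) = 0 at hw₁
  change Q (w₂ : V) = 0 at hw₂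
  have hxe := sideProj_spec hp x
  rw [hw, Submodule.coe_add] at hxe
  rw [hw, map_add, hL _ hw₁, hL _ hw₂]
  have hx' := hx
  rw [sideProj_spec hp x, quad_coord hp, hw, Submodule.coe_add, quad_add, hw₁, hw₂, zero_add,
    zero_add] at hx'
  set α := pl x b
  set β := pl x a
  clear_value α β
  obtain ⟨ha1, hb1⟩ := mem_side.1 w₁.2
  obtain ⟨ha2, hb2⟩ := mem_side.1 w₂.2
  have ha : Q (α • a) = 0 := by rw [quad_smul, hp.qu, mul_zero]
  have hb : Q (β • b) = 0 := by rw [quad_smul, hp.qz, mul_zero]
  have p1 : pl (α • a) (w₁ : V) = 0 := by rw [QuadraticMap.polar_smul_left, ha1, smul_zero]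
  have p2 : pl (β • b) (w₂ : V) = 0 := by rw [QuadraticMap.polar_smul_left, hb2, smul_zero]
  have q1 : Q (α • a + (w₁ : V)) = 0 := by rw [quad_add, ha, hw₁, p1]; simp
  have q2 : Q (β • b + (w₂ : V)) = 0 := by rw [quad_add, hb, hw₂, p2]; simp
  have q12 : pl (α • a + (w₁ : V)) (β • b + (w₂ : V)) = 0 := by
    simp only [QuadraticMap.polar_add_left, QuadraticMap.polar_add_right, QuadraticMap.polar_smul_left,
      QuadraticMap.polar_smul_right, hp.uz, ha2, smul_eq_mul,
      (QuadraticMap.polar_comm Q (w₁ : V) b).trans hb1]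
    linear_combination hx'
  rw [hxe, show α • a + β • b + ((w₁ : V) + w₂) = (α • a + w₁) + (β • b + w₂) by abel,
    h _ _ q1 q2 q12, h _ _ ha hw₁ p1, h _ _ hb hw₂ p2]
  abel

section Base

variable {κ : V → A}

variable (Q) in
/-- The candidate value at an anisotropic vector orthogonal to a pair. -/
def phi (κ : V → A) (a b c : V) : A := κ (a + (-Q c) • b + c) - κ a - κ ((-Q c) • b)

theorem quad_phi {a b c : V} (hp : SingPair Q a b) (hac : pl a c = 0) (hbc : pl b c = 0) :
    Q (a + (-Q c) • b + c) = 0 := by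
  rw [quad_add, quad_add, quad_smul, hp.qu, hp.qz, QuadraticMap.polar_add_left,
    QuadraticMap.polar_smul_left, QuadraticMap.polar_smul_right, hp.uz, hac, hbc]
  simp

variable (h : OA Q κ)
include h

theorem phi_move_left {a b c v : V} (hp : SingPair Q a b) (hv : Q v = 0) (hva : pl a v = 0)
    (hvb : pl b v = 0) (hvc : pl c v = 0) (hac : pl a c = 0) (hbc : pl b c = 0) :
    phi Q κ (a + v) b c = phi Q κ a b c := by
  have hx := quad_phi hp hac hbc
  rw [phi, phi, show a + v + (-Q c) • b + c = (a + (-Q c) • b + c) + v by abel,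
    h _ _ hx hv (by
      rw [QuadraticMap.polar_add_left, QuadraticMap.polar_add_left, QuadraticMap.polar_smul_left, hva, hvb,
        hvc]
      simp),
    h _ _ hp.qu hv hva]
  abel

theorem phi_move_right {a b c v : V} (hp : SingPair Q a b) (hv : Q v = 0) (hva : pl a v = 0)
    (hvb : pl b v = 0) (hvc : pl c v = 0) (hac : pl a c = 0) (hbc : pl b c = 0) :
    phi Q κ a (b + v) c = phi Q κ a b c := by
  have hx := quad_phi hp hac hbc
  rw [phi, phi, smul_add,
    show a + ((-Q c) • b + (-Q c) • v) + c = (a + (-Q c) • b + c) + (-Q c) • v by abel,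
    h _ ((-Q c) • v) hx (by rw [quad_smul, hv, mul_zero]) (by
      rw [QuadraticMap.polar_smul_right, QuadraticMap.polar_add_left, QuadraticMap.polar_add_left,
        QuadraticMap.polar_smul_left, hva, hvb, hvc]
      simp),
    h ((-Q c) • b) ((-Q c) • v) (by rw [quad_smul, hp.qz, mul_zero]) (by rw [quad_smul, hv, mul_zero]) (by
      rw [QuadraticMap.polar_smul_left, QuadraticMap.polar_smul_right, hvb]; simp)]
  abel

/-- The value does not depend on the pair. -/
theorem phi_swap {a b a' b' c : V} (hp : SingPair Q a b) (hp' : SingPair Q a' b') (h1 : pl a a' = 0)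
    (h2 : pl a b' = 0) (h3 : pl b a' = 0) (h4 : pl b b' = 0) (hac : pl a c = 0) (hbc : pl b c = 0)
    (hac' : pl a' c = 0) (hbc' : pl b' c = 0) : phi Q κ a' b' c = phi Q κ a b c := by
  have h1' : pl a' a = 0 := (QuadraticMap.polar_comm Q a' a).trans h1
  have h2' : pl b' a = 0 := (QuadraticMap.polar_comm Q b' a).trans h2
  have h3' : pl a' b = 0 := (QuadraticMap.polar_comm Q a' b).trans h3
  have h4' : pl b' b = 0 := (QuadraticMap.polar_comm Q b' b).trans h4
  have hca : pl c a = 0 := (QuadraticMap.polar_comm Q c a).trans hac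
  have hcb : pl c b = 0 := (QuadraticMap.polar_comm Q c b).trans hbc
  have hca' : pl c a' = 0 := (QuadraticMap.polar_comm Q c a').trans hac'
  have hcb' : pl c b' = 0 := (QuadraticMap.polar_comm Q c b').trans hbc'
  have hpA : SingPair Q (a' + a) b' := ⟨by rw [quad_add, hp'.qu, hp.qu, h1']; simp, hp'.qz,
    by rw [QuadraticMap.polar_add_left, hp'.uz, h2]; simp⟩
  rw [← phi_move_left h hp' hp.qu h1' h2' hca hac' hbc',
    ← phi_move_right h hpA (v := b - b') (by rw [quad_sub, hp.qz, hp'.qz, h4]; simp)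
      (by simp [QuadraticMap.polar_add_left, QuadraticMap.polar_sub_right, h2, h3', hp.uz, hp'.uz])
      (by simp [QuadraticMap.polar_sub_right, h4', hp'.qz])
      (by simp [QuadraticMap.polar_sub_right, hcb, hcb'])
      (by rw [QuadraticMap.polar_add_left, hac, hac', add_zero]) hbc',
    add_sub_cancel, add_comm a' a, phi_move_left h hp hp'.qu h1 h3 hca' hac hbc]

theorem phi_zero {a b : V} : phi Q κ a b 0 = 0 := by
  simp [phi, h.zero]

/-- Two vectors of equal norm. -/
theorem phi_add_equal {a b a' b' c d : V} (hp : SingPair Q a b) (hp' : SingPair Q a' b') (h1 : pl a a' = 0)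
    (h2 : pl a b' = 0) (h3 : pl b a' = 0) (h4 : pl b b' = 0) (hac : pl a c = 0) (hbc : pl b c = 0)
    (hac' : pl a' c = 0) (hbc' : pl b' c = 0) (had : pl a d = 0) (hbd : pl b d = 0) (had' : pl a' d = 0)
    (hbd' : pl b' d = 0) (hcd : Q c = Q d) :
    phi Q κ a b (c + d) = phi Q κ a b c - phi Q κ a b (-d) := by
  obtain ⟨k, hk⟩ : ∃ k, k = -Q c := ⟨_, rfl⟩
  have hd' : Q (-d) = Q c := by rw [QuadraticMap.map_neg, hcd]
  have e1 : pl a' (-d) = 0 := by rw [QuadraticMap.polar_neg_right, had', neg_zero]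
  have e2 : pl b' (-d) = 0 := by rw [QuadraticMap.polar_neg_right, hbd', neg_zero]
  have qw1 : Q (a' + k • b' + c) = 0 := by rw [hk]; exact quad_phi hp' hac' hbc'
  have qy : Q (a' + k • b' + -d) = 0 := by rw [hk, ← hd']; exact quad_phi hp' e1 e2
  have qw2 : Q (-(a' + k • b' + -d)) = 0 := by rw [QuadraticMap.map_neg, qy]
  have qb : Q ((-Q (c + d)) • b) = 0 := by rw [quad_smul, hp.qz, mul_zero]
  have paw : pl a (a' + k • b' + c) = 0 := by simp [h1, h2, hac]
  have pbw : pl ((-Q (c + d)) • b) (-(a' + k • b' + -d)) = 0 := by simp [h3, h4, hbd]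
  have qx1 : Q (a + (a' + k • b' + c)) = 0 := by rw [quad_add, hp.qu, qw1, paw]; simp
  have qx2 : Q ((-Q (c + d)) • b + -(a' + k • b' + -d)) = 0 := by rw [quad_add, qb, qw2, pbw]; simp
  have p12 : pl (a + (a' + k • b' + c)) ((-Q (c + d)) • b + -(a' + k • b' + -d)) = 0 := by
    have e3 : pl a' a' = 0 := hp'.uu
    have e4 : pl b' b' = 0 := hp'.zz
    simp only [QuadraticMap.polar_add_left, QuadraticMap.polar_add_right, QuadraticMap.polar_smul_left,
      QuadraticMap.polar_smul_right, QuadraticMap.polar_neg_right, hp.uz, h1, h2,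
      (QuadraticMap.polar_comm Q a' b).trans h3, (QuadraticMap.polar_comm Q b' b).trans h4,
      (QuadraticMap.polar_comm Q c b).trans hbc, had, e3, e4, hp'.uz, hp'.zu, had', hbd',
      (QuadraticMap.polar_comm Q c a').trans hac', (QuadraticMap.polar_comm Q c b').trans hbc', smul_eq_mul]
    rw [quad_add Q c d, ← hcd, hk]
    ring
  have key : κ (a + (-Q (c + d)) • b + (c + d)) =
      κ a + κ (a' + k • b' + c) + (κ ((-Q (c + d)) • b) - κ (a' + k • b' + -d)) := by
    rw [show a + (-Q (c + d)) • b + (c + d) = (a + (a' + k • b' + c)) +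
        ((-Q (c + d)) • b + -(a' + k • b' + -d)) by abel,
      h _ _ qx1 qx2 p12, h _ _ hp.qu qw1 paw, h _ _ qb qw2 pbw, h.neg qy]
    abel
  rw [← phi_swap h hp hp' h1 h2 h3 h4 hac hbc hac' hbc', ← phi_swap h hp hp' h1 h2 h3 h4
    (by rw [QuadraticMap.polar_neg_right, had, neg_zero]) (by rw [QuadraticMap.polar_neg_right, hbd, neg_zero])
    e1 e2]
  simp only [phi]
  rw [key, hd', ← hk]
  abel

/-- On an anisotropic space orthogonal to two pairs the values are additive and agree. -/
theorem exists_base (hs : ∀ t : F, t = 0 ∨ t = 1 ∨ t = -1) {a b a' b' : V} (hp : SingPair Q a b)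
    (hp' : SingPair Q a' b') (h1 : pl a a' = 0) (h2 : pl a b' = 0) (h3 : pl b a' = 0) (h4 : pl b b' = 0)
    (C : Submodule F V) (hC : ∀ c ∈ C, pl a c = 0 ∧ pl b c = 0 ∧ pl a' c = 0 ∧ pl b' c = 0)
    (han : ∀ c ∈ C, Q c = 0 → c = 0) :
    ∃ φ : C →+ A, ∀ (c : C) (s t : F), s * t + Q (c : V) = 0 →
      κ (s • a' + t • b' + (c : V)) = κ (s • a') + κ (t • b') + φ c := by
  let f : C → A := fun c => phi Q κ a b c
  have hfdef : ∀ c, f c = phi Q κ a b c := fun _ => rfl
  clear_value f
  have heq : ∀ c d : C, Q (c : V) = Q (d : V) → f (c + d) = f c - f (-d) := fun c d hcd => by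
    obtain ⟨c1, c2, c3, c4⟩ := hC _ c.2
    obtain ⟨d1, d2, d3, d4⟩ := hC _ d.2
    rw [hfdef, hfdef, hfdef]
    exact phi_add_equal h hp hp' h1 h2 h3 h4 c1 c2 c3 c4 d1 d2 d3 d4 hcd
  have hf0 : f 0 = 0 := by rw [hfdef]; exact phi_zero h
  have htwo : ∀ c : C, ((2 : F) = 0 → f c + f c = 0) ∧ ((3 : F) = 0 → f c + f c + f c = 0) := by
    intro c
    obtain ⟨c1, c2, -, -⟩ := hC _ c.2
    have qx := quad_phi hp c1 c2
    have qb : Q ((-Q (c : V)) • b) = 0 := by rw [quad_smul, hp.qz, mul_zero]
    constructor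
    · intro e2
      have z : ∀ x, Q x = 0 → κ x + κ x = 0 := fun x hx => by rw [← h.double hx, e2, zero_smul, h.zero]
      calc f c + f c = (κ (a + (-Q (c : V)) • b + c) + κ (a + (-Q (c : V)) • b + c)) - (κ a + κ a) -
          (κ ((-Q (c : V)) • b) + κ ((-Q (c : V)) • b)) := by simp only [hfdef, phi]; abel
        _ = 0 := by rw [z _ qx, z _ hp.qu, z _ qb]; abel
    · intro e3
      have z : ∀ x, Q x = 0 → κ x + κ x + κ x = 0 := fun x hx => by
        rw [← h.triple hx, e3, zero_smul, h.zero]
      calc f c + f c + f c =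
          (κ (a + (-Q (c : V)) • b + c) + κ (a + (-Q (c : V)) • b + c) + κ (a + (-Q (c : V)) • b + c)) -
          (κ a + κ a + κ a) -
          (κ ((-Q (c : V)) • b) + κ ((-Q (c : V)) • b) + κ ((-Q (c : V)) • b)) := by simp only [hfdef, phi]; abel
        _ = 0 := by rw [z _ qx, z _ hp.qu, z _ qb]; abel
  have hneg : ∀ c : C, f (-c) = -f c := by
    intro c
    rcases hs (1 + 1) with e | e | e
    · have hc2 : c + c = 0 := by rw [← one_smul F c, ← add_smul, e, zero_smul]
      rw [neg_eq_of_add_eq_zero_right hc2]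
      exact (neg_eq_of_add_eq_zero_right ((htwo c).1 (by rw [← one_add_one_eq_two]; exact e))).symm
    · exact absurd (add_eq_left.1 e) one_ne_zero
    · have hc2 : c + c = -c := by rw [← one_smul F c, ← add_smul, e, neg_smul]
      have h3' := (htwo (-c)).2 (by rw [show (3 : F) = 1 + 1 + 1 by norm_num, e, neg_add_cancel])
      have := heq c c rfl
      rw [hc2] at this
      have e' : f c = f (-c) + f (-c) := (eq_add_of_sub_eq this.symm)
      rw [e', eq_neg_iff_add_eq_zero]
      rw [← h3']
      abel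
  have heq' : ∀ c d : C, Q (c : V) = Q (d : V) → f (c + d) = f c + f d := fun c d hcd => by
    rw [heq c d hcd, hneg, sub_neg_eq_add]
  have hadd : ∀ c d : C, f (c + d) = f c + f d := by
    intro c d
    rcases eq_or_ne c 0 with rfl | hc0
    · rw [zero_add, hf0, zero_add]
    rcases eq_or_ne d 0 with rfl | hd0
    · rw [add_zero, hf0, add_zero]
    rcases eq_or_ne (c + d) 0 with hcd | hcd
    · rw [eq_neg_of_add_eq_zero_right hcd, hneg, add_neg_cancel, add_neg_cancel, hf0]
    have nz : ∀ e : C, e ≠ 0 → Q (e : V) = 1 ∨ Q (e : V) = -1 := fun e he =>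
      (hs _).resolve_left fun h0 => he (Subtype.ext (han _ e.2 h0))
    by_cases hQcd : Q (c : V) = Q (d : V)
    · exact heq' c d hQcd
    by_cases hQc : Q ((c + d : C) : V) = Q (c : V)
    · have := heq' (c + d) (-c) (by rw [Submodule.coe_neg, QuadraticMap.map_neg, hQc])
      rw [hneg, add_neg_cancel_comm] at this
      rw [this]; abel
    · have hQd : Q ((c + d : C) : V) = Q (d : V) := by
        rcases nz c hc0 with e | e <;> rcases nz d hd0 with e' | e' <;> rcases nz _ hcd with e'' | e'' <;>
          first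
          | exact absurd (e.trans e'.symm) hQcd
          | exact absurd (e''.trans e.symm) hQc
          | exact e''.trans e'.symm
      have := heq' (c + d) (-d) (by rw [Submodule.coe_neg, QuadraticMap.map_neg, hQd])
      rw [hneg, add_neg_cancel_right] at this
      rw [this]; abel
  refine ⟨AddMonoidHom.mk' f hadd, fun c s t hst => ?_⟩
  change κ _ = _ + _ + f c
  obtain ⟨c1, c2, c3, c4⟩ := hC _ c.2
  rcases eq_or_ne c 0 with hc0 | hc0
  · subst hc0
    rw [hf0, Submodule.coe_zero, add_zero, add_zero]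
    rw [Submodule.coe_zero, map_zero, add_zero] at hst
    exact h _ _ (by rw [quad_smul, hp'.qu, mul_zero]) (by rw [quad_smul, hp'.qz, mul_zero])
      (by rw [QuadraticMap.polar_smul_left, QuadraticMap.polar_smul_right, hp'.uz, smul_eq_mul, smul_eq_mul,
        mul_one, hst])
  have hQc : Q (c : V) ≠ 0 := fun e => hc0 (Subtype.ext (han _ c.2 e))
  have hφ : phi Q κ a' b' c = f c := (phi_swap h hp hp' h1 h2 h3 h4 c1 c2 c3 c4).trans (hfdef c).symm
  have hφn : phi Q κ a' b' (-(c : V)) = f (-c) := by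
    rw [hfdef, Submodule.coe_neg]
    exact phi_swap h hp hp' h1 h2 h3 h4 (by rw [QuadraticMap.polar_neg_right, c1, neg_zero])
      (by rw [QuadraticMap.polar_neg_right, c2, neg_zero])
      (by rw [QuadraticMap.polar_neg_right, c3, neg_zero])
      (by rw [QuadraticMap.polar_neg_right, c4, neg_zero])
  rcases hs s with e | e | e
  · exact absurd (by rw [e, zero_mul, zero_add] at hst; exact hst) hQc
  · subst e
    rw [show t = -Q (c : V) by linear_combination hst, one_smul, ← hφ, phi]
    abel
  · subst e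
    have ht : t = Q (c : V) := by linear_combination -hst
    rw [hneg] at hφn
    rw [phi, QuadraticMap.map_neg, ← ht] at hφn
    have qy : Q (a' + (-t) • b' + -(c : V)) = 0 := by
      rw [ht, ← QuadraticMap.map_neg Q (c : V)]
      exact quad_phi hp' (by rw [QuadraticMap.polar_neg_right, c3, neg_zero])
        (by rw [QuadraticMap.polar_neg_right, c4, neg_zero])
    rw [show (-1 : F) • a' + t • b' + (c : V) = -(a' + (-t) • b' + -(c : V)) by module, h.neg qy,
      neg_one_smul, h.neg hp'.qu, show f c = -(κ (a' + (-t) • b' + -(c : V)) - κ a' - κ ((-t) • b')) by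
        rw [hφn, neg_neg],
      show (-t) • b' = -(t • b') from neg_smul _ _, h.neg (by rw [quad_smul, hp'.qz, mul_zero])]
    abel

end Base

/-- The recursion over orthogonal pairs. -/
theorem exists_linear_side (hs : ∀ t : F, t = 0 ∨ t = 1 ∨ t = -1) (n : ℕ) :
    ∀ (V : Type v) [AddCommGroup V] [Module F V] [FiniteDimensional F V] (Q : QuadraticForm F V)
      (κ : V → A), Module.finrank F V ≤ n → PolarNondeg Q → OA Q κ → ∀ (a b : V), SingPair Q a b →
      ∀ (a' b' : side Q a b), SingPair (Q.comp (side Q a b).subtype) a' b' →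
      ∃ L : side Q a b →+ A, ∀ c : side Q a b, Q (c : V) = 0 → L c = κ c := by
  induction n with
  | zero =>
    intro V _ _ _ Q κ hn _ _ a b hp
    have := finrank_side hp
    omega
  | succ n ih =>
    intro V _ _ _ Q κ hn hQ h a b hp a' b' hp'
    let Q₁ := Q.comp (side Q a b).subtype
    let κ₁ : side Q a b → A := fun c => κ c
    have hQ₁ : PolarNondeg Q₁ := polarNondeg_side hQ hp
    have h₁ : OA Q₁ κ₁ := fun x y hx hy hxy => h (x : V) (y : V) hx hy hxy
    by_cases hiso : ∃ c : side Q₁ a' b', c ≠ 0 ∧ Q₁ (c : side Q a b) = 0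
    · obtain ⟨c, hc0, hc⟩ := hiso
      obtain ⟨d, hcd⟩ := exists_pair (polarNondeg_side hQ₁ hp') (u := c) hc hc0
      have := finrank_side hp
      obtain ⟨L, hL⟩ := ih (side Q a b) Q₁ κ₁ (by omega) hQ₁ h₁ a' b' hp' c d hcd
      exact extend_linear hQ₁ h₁ hp' hcd L hL
    · push Not at hiso
      obtain ⟨ha1, hb1⟩ := mem_side.1 a'.2
      obtain ⟨ha2, hb2⟩ := mem_side.1 b'.2
      let C : Submodule F V := (side Q₁ a' b').map (side Q a b).subtype
      have hmem : ∀ c : side Q a b, c ∈ side Q₁ a' b' → (c : V) ∈ C := fun c hc =>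
        Submodule.mem_map_of_mem hc
      obtain ⟨φ, hφ⟩ := exists_base h hs hp (a' := (a' : V)) (b' := (b' : V)) ⟨hp'.qu, hp'.qz, hp'.uz⟩
        ha1 ha2 hb1 hb2 C
        (by
          rintro _ ⟨c, hc, rfl⟩
          obtain ⟨hac, hbc⟩ := mem_side.1 c.2
          obtain ⟨hac', hbc'⟩ := mem_side.1 hc
          exact ⟨hac, hbc, hac', hbc'⟩)
        (by
          rintro _ ⟨c, hc, rfl⟩ h0
          have := hiso ⟨c, hc⟩
          by_contra hne
          exact this (fun e => hne (by rw [show c = 0 from congrArg Subtype.val e]; rfl)) h0)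
      refine ⟨AddMonoidHom.mk' (fun x => κ (QuadraticMap.polar Q (x : V) (b' : V) • (a' : V)) +
        κ (QuadraticMap.polar Q (x : V) (a' : V) • (b' : V)) +
        φ ⟨_, hmem _ (sideProj Q₁ hp' x).2⟩) fun x y => ?_, fun x hx => ?_⟩
      · have e : (⟨_, hmem _ (sideProj Q₁ hp' (x + y)).2⟩ : C) =
            ⟨_, hmem _ (sideProj Q₁ hp' x).2⟩ + ⟨_, hmem _ (sideProj Q₁ hp' y).2⟩ :=
          Subtype.ext (by simp)
        rw [e, map_add, Submodule.coe_add, QuadraticMap.polar_add_left, QuadraticMap.polar_add_left,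
          h.smul_add (x := (a' : V)) hp'.qu, h.smul_add (x := (b' : V)) hp'.qz]
        abel
      have hxd := sideProj_spec hp' x
      have hx0 : Q₁ x = 0 := hx
      rw [hxd, quad_coord hp'] at hx0
      have hxd' := congrArg Subtype.val hxd
      rw [Submodule.coe_add, Submodule.coe_add, Submodule.coe_smul, Submodule.coe_smul] at hxd'
      conv_rhs => rw [hxd']
      exact (hφ ⟨_, hmem _ (sideProj Q₁ hp' x).2⟩ _ _ hx0).symm

/-- Functions additive on orthogonal singular pairs are additive. -/
theorem exists_linear [Fintype F] [FiniteDimensional F V] (hs : ∀ t : F, t = 0 ∨ t = 1 ∨ t = -1)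
    (hQ : PolarNondeg Q) (hn : 5 ≤ Module.finrank F V) {κ : V → A} (h : OA Q κ) :
    ∃ L : V →+ A, ∀ x, Q x = 0 → L x = κ x := by
  obtain ⟨a, ha0, ha⟩ := exists_singular Q hQ (by omega)
  obtain ⟨b, hp⟩ := exists_pair hQ ha ha0
  have hd := finrank_side hp
  obtain ⟨a', ha0', ha'⟩ := exists_singular _ (polarNondeg_side hQ hp) (by omega)
  obtain ⟨b', hp'⟩ := exists_pair (polarNondeg_side hQ hp) ha' ha0'
  obtain ⟨L, hL⟩ := exists_linear_side hs _ V Q κ le_rfl hQ h a b hp a' b' hp'
  exact extend_linear hQ h hp hp' L hL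

end CfsgLib.Known.OrthLift
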