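import Cfsg.Agent.Lib.Known.OrthLift.Radical
import Cfsg.Agent.Lib.Known.OrthLift.Linearize

/-!
# Lifts of long root elements and their centralisers

Over the fields with two and three elements the stabiliser of two orthogonal singular vectors centralises
the lifts of their root element.
-/

set_option autoImplicit false
set_option linter.unusedSectionVars false
set_option linter.unusedSimpArgs false

namespace CfsgLib.Known.OrthLift

open CfsgLib.Classical CfsgLib.OrthMinIndex CfsgLib.Known.CentralComm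
open scoped commutatorElement IsMulCommutative

universe u v w

variable {F : Type u} [Field F] {V : Type v} [AddCommGroup V] [Module F V] {Q : QuadraticForm F V}

local notation "pl" => QuadraticMap.polar Q

variable (Q) in
/-- The form on the complement of a pair. -/
noncomputable abbrev sideQ (u z : V) : QuadraticForm F (side Q u z) := Q.comp (side Q u z).subtype

variable (Q) in
/-- With two elements in the field and dimension eight there are no four orthogonal pairs. -/
def NoFour : Prop :=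
  ∀ [Fintype F], Fintype.card F = 2 → Module.finrank F V = 8 → ∀ (u z : V), SingPair Q u z →
    ∀ (e f : side Q u z), SingPair (sideQ Q u z) e f →
      ∀ (s t : side (sideQ Q u z) e f), SingPair (sideQ (sideQ Q u z) e f) s t →
        ∀ w : side (sideQ (sideQ Q u z) e f) s t,
          sideQ (sideQ (sideQ Q u z) e f) s t w = 0 → w = 0

/-- An automorphism fixing a pair, on its complement. -/
noncomputable def restr {u z : V} (g : qAut Q) (hu : g.1 u = u) (hz : g.1 z = z) : qAut (sideQ Q u z) :=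
  ⟨{ toFun := fun w => ⟨g.1 (w : V), by
        obtain ⟨a, b⟩ := mem_side.1 w.2
        rw [mem_side]
        rw [← qAut_polar g] at a b
        rw [hu] at a
        rw [hz] at b
        exact ⟨a, b⟩⟩
     map_add' := fun a b => Subtype.ext (map_add g.1 (a : V) (b : V))
     map_smul' := fun t a => Subtype.ext (map_smul g.1 t (a : V))
     invFun := fun w => ⟨g.1.symm (w : V), by
        obtain ⟨a, b⟩ := mem_side.1 w.2
        rw [mem_side]
        constructor
        · rw [← qAut_polar g, g.1.apply_symm_apply, hu, a]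
        · rw [← qAut_polar g, g.1.apply_symm_apply, hz, b]⟩
     left_inv := fun w => Subtype.ext (g.1.symm_apply_apply _)
     right_inv := fun w => Subtype.ext (g.1.apply_symm_apply _) },
    fun w => qAut_map g (w : V)⟩

theorem restr_apply {u z : V} (g : qAut Q) (hu : g.1 u = u) (hz : g.1 z = z) (w : side Q u z) :
    (((restr g hu hz).1 w : side Q u z) : V) = g.1 (w : V) := rfl

/-- Automorphisms agreeing on two pairs and their complement are equal. -/
theorem qAut_eq_two {u z : V} (h : SingPair Q u z) {e f : side Q u z} (he : SingPair (sideQ Q u z) e f)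
    {a b : qAut Q} (hu : a.1 u = b.1 u) (hz : a.1 z = b.1 z) (hae : a.1 (e : V) = b.1 e)
    (haf : a.1 (f : V) = b.1 f)
    (hs : ∀ w : side (sideQ Q u z) e f, a.1 ((w : side Q u z) : V) = b.1 ((w : side Q u z) : V)) : a = b := by
  refine qAut_ext fun x => ?_
  obtain ⟨w, hw, ex⟩ := exists_side_decomp h x
  obtain ⟨w', hw', ew⟩ := exists_side_decomp he ⟨w, hw⟩
  have ew' := congrArg Subtype.val ew
  simp only [Submodule.coe_add, Submodule.coe_smul] at ew'
  rw [ex, ew']
  simp only [map_add, map_smul, hu, hz, hae, haf, hs ⟨w', hw'⟩]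

theorem flip_pair_apply {s t a b : V} (h : SingPair Q s t) (ha1 : pl s a = 0) (ha2 : pl t a = 0)
    (hb1 : pl s b = 0) (hb2 : pl t b = 0) (ha : Q a ≠ 0) (hab : Q a = Q b) :
    act (flip3 Q s t a 1 * flip3 Q s t b 1) s = s ∧ ∀ x, pl s x = 0 → pl t x = 0 →
      act (flip3 Q s t a 1 * flip3 Q s t b 1) x =
        (x - (pl x b / Q b) • b) - (pl (x - (pl x b / Q b) • b) a / Q a) • a := by
  have hb : Q b ≠ 0 := hab ▸ ha
  have ha1' : pl a s = 0 := (QuadraticMap.polar_comm Q a s).trans ha1
  have ha2' : pl a t = 0 := (QuadraticMap.polar_comm Q a t).trans ha2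
  have hb1' : pl b s = 0 := (QuadraticMap.polar_comm Q b s).trans hb1
  have hb2' : pl b t = 0 := (QuadraticMap.polar_comm Q b t).trans hb2
  refine ⟨?_, fun x hxs hxt => ?_⟩
  · rw [act_mul, flip3_apply h hb1 hb2 hb one_ne_zero, flip3_apply h ha1 ha2 ha one_ne_zero]
    simp only [QuadraticMap.polar_sub_left, QuadraticMap.polar_smul_left, h.uu, h.zz, h.uz, h.zu, ha1, ha2,
      hb1, hb2, ha1', ha2', hb1', hb2', smul_eq_mul, mul_one, one_mul]
    rw [← hab]
    match_scalars <;> field_simp <;> ring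
  · have hxs' : pl x s = 0 := (QuadraticMap.polar_comm Q x s).trans hxs
    have hxt' : pl x t = 0 := (QuadraticMap.polar_comm Q x t).trans hxt
    rw [act_mul, flip3_apply h hb1 hb2 hb one_ne_zero, flip3_apply h ha1 ha2 ha one_ne_zero]
    simp only [QuadraticMap.polar_sub_left, QuadraticMap.polar_smul_left, hxs', hxt', hb1', hb2', zero_mul,
      zero_smul, sub_zero, smul_eq_mul, mul_zero]

theorem commute_of_fix {u w : V} (hu : Q u = 0) (hw : pl u w = 0) {g : eichGroup Q} (gu : act g u = u)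
    (gw : act g w = w) : Commute g (eG Q u w) := by
  rw [Commute, SemiconjBy, eG_conj' g hu hw, gu, gw]

variable [Fintype F] [FiniteDimensional F V]

/-- The reflections and the Eichler group generate. -/
theorem refl_sup_eich (hQ : PolarNondeg Q) (hn : 4 ≤ Module.finrank F V) :
    reflGroup Q ⊔ eichGroup Q = ⊤ := by
  by_cases hex : Fintype.card F ≠ 2 ∨ Module.finrank F V ≠ 4
  · rw [reflGroup_eq_top Q hQ hex, top_sup_eq]
  push Not at hex
  obtain ⟨s, hs0, hs⟩ := exists_singular Q hQ (by omega)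
  obtain ⟨t, hst⟩ := exists_pair hQ hs hs0
  have hd := finrank_side hst
  refine eq_top_iff.2 fun g _ => ?_
  obtain ⟨e, he, hes, het⟩ := exists_move_pair Q hQ hn (u := g.1 s) (z := g.1 t) (by rw [qAut_map, hst.qu])
    (by rw [qAut_map, hst.qz]) (by rw [qAut_polar, hst.uz]) hst.qu hst.qz hst.uz
  set g' := e * g
  have g's : g'.1 s = s := hes
  have g't : g'.1 t = t := het
  have hr : restr g' g's g't ∈ reflGroup (sideQ Q s t) :=
    reflGroup_eq_top _ (polarNondeg_side hQ hst) (Or.inr (by omega)) ▸ Subgroup.mem_top _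
  have key : ∀ x ∈ reflGroup (sideQ Q s t), ∃ y ∈ reflGroup Q, y.1 s = s ∧ y.1 t = t ∧
      ∀ w : side Q s t, y.1 (w : V) = ((x.1 w : side Q s t) : V) := by
    intro x hx
    induction hx using Subgroup.closure_induction with
    | mem x hx =>
      obtain ⟨v, hv, rfl⟩ := hx
      have hv' : Q (v : V) ≠ 0 := hv
      obtain ⟨v1, v2⟩ := mem_side.1 v.2
      refine ⟨qRefl Q hv', qRefl_mem Q hv', qRefl_fix Q hv' v1,
        qRefl_fix Q hv' v2, fun w => ?_⟩
      rw [qRefl_apply, qRefl_apply]
      rfl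
    | one => exact ⟨1, one_mem _, rfl, rfl, fun _ => rfl⟩
    | mul a b _ _ ha hb =>
      obtain ⟨y, hy, y1, y2, y3⟩ := ha
      obtain ⟨y', hy', y1', y2', y3'⟩ := hb
      exact ⟨y * y', mul_mem hy hy', by rw [qAut_mul_apply, y1', y1], by rw [qAut_mul_apply, y2', y2],
        fun w => by rw [qAut_mul_apply, y3', y3]; rfl⟩
    | inv a _ ha =>
      obtain ⟨y, hy, y1, y2, y3⟩ := ha
      refine ⟨y⁻¹, inv_mem hy, (y.1.symm_apply_eq).2 y1.symm, (y.1.symm_apply_eq).2 y2.symm,
        fun w => (y.1.symm_apply_eq).2 ?_⟩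
      rw [y3]
      exact congrArg Subtype.val (a.1.apply_symm_apply w).symm
  obtain ⟨y, hy, y1, y2, y3⟩ := key _ hr
  have hyg : y = g' := qAut_ext fun x => by
    obtain ⟨w, hw, ex⟩ := exists_side_decomp hst x
    rw [ex, map_add, map_add, map_smul, map_smul, y1, y2, y3 ⟨w, hw⟩, restr_apply, map_add, map_add,
      map_smul, map_smul, g's, g't]
  rw [show g = e⁻¹ * g' by rw [inv_mul_cancel_left]]
  exact mul_mem (inv_mem (Subgroup.mem_sup_right he)) (Subgroup.mem_sup_left (hyg ▸ hy))

/-- A homomorphism to a commutative group kills the transformations at a point of a pair with anisotropic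
complement of dimension two, over the field with two elements. -/
theorem hom_aniso_two {A : Type*} [CommGroup A] (χ : eichGroup Q →* A) {s t : V} (hst : SingPair Q s t)
    (hfin : Module.finrank F (side Q s t) = 2) (hsc : ∀ c : F, c = 0 ∨ c = 1)
    (han : ∀ w : side Q s t, Q (w : V) = 0 → w = 0) (w₀ : side Q s t) : χ (eG Q s (w₀ : V)) = 1 := by
  rcases eq_or_ne w₀ 0 with rfl | hw0
  · rw [Submodule.coe_zero, eG_zero hst.qu, map_one]
  have h20 : (2 : F) = 0 := by
    rcases hsc 2 with h0 | h0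
    · exact h0
    · exact absurd (by linear_combination h0) (one_ne_zero (α := F))
  have hone : ∀ x : side Q s t, x ≠ 0 → Q (x : V) = 1 := fun x hx0 =>
    (hsc _).resolve_left fun h0 => hx0 (han x h0)
  obtain ⟨w₁, hw1⟩ : ∃ w₁ : side Q s t, ∀ c : F, w₁ ≠ c • w₀ := by
    by_contra hc
    push Not at hc
    have htop : (⊤ : Submodule F (side Q s t)) ≤ Submodule.span F {w₀} := fun x _ => by
      obtain ⟨c, hc⟩ := hc x
      exact Submodule.mem_span_singleton.2 ⟨c, hc.symm⟩
    have := (Submodule.finrank_mono htop).trans_eq (finrank_span_singleton hw0)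
    rw [finrank_top, hfin] at this
    omega
  have hv2 : ∀ x : V, x + x = 0 := fun x => by rw [← two_smul F, h20, zero_smul]
  have hperp : ∀ x : side Q s t, pl s (x : V) = 0 := fun x => (mem_side.1 x.2).1
  have hmove : ∀ x y : side Q s t, x ≠ 0 → y ≠ 0 → x + y ≠ 0 →
      χ (eG Q s (x : V)) = χ (eG Q s (y : V)) := by
    intro x y hx0 hy0 hxy
    obtain ⟨g1, g2⟩ := flip_pair_apply hst (mem_side.1 x.2).1 (mem_side.1 x.2).2 (mem_side.1 y.2).1
      (mem_side.1 y.2).2 (by rw [hone x hx0]; exact one_ne_zero) (by rw [hone x hx0, hone y hy0])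
    have hpol : pl (x : V) (y : V) = 1 := by
      rw [QuadraticMap.polar, ← Submodule.coe_add, hone _ hxy, hone _ hx0, hone _ hy0]
      linear_combination (-1 : F) * h20
    have e := eG_conj' (flip3 Q s t (x : V) 1 * flip3 Q s t (y : V) 1) hst.qu (hperp x)
    rw [g1, g2 _ (mem_side.1 x.2).1 (mem_side.1 x.2).2, hone _ hx0, hone _ hy0, hpol, div_one, div_one,
      one_smul, QuadraticMap.polar_sub_left, quad_polar_self, hone _ hx0, QuadraticMap.polar_comm Q (y : V) x,
      hpol, h20, zero_mul, zero_sub, neg_one_smul, sub_neg_eq_add, sub_eq_add_neg,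
      neg_eq_of_add_eq_zero_right (hv2 (y : V)), add_comm (x : V) (y : V), add_assoc, hv2, add_zero] at e
    have e' := congrArg χ e
    rw [map_mul, map_mul χ (eG Q s (y : V)), mul_comm (χ (eG Q s (y : V)))] at e'
    exact mul_left_cancel e'
  have n0 : w₁ ≠ 0 := by simpa using hw1 0
  have n1 : w₀ + w₁ ≠ 0 := fun h0 => hw1 (-1) (by rw [neg_one_smul, eq_neg_iff_add_eq_zero, add_comm, h0])
  have hw00 : w₀ + w₀ = 0 := Subtype.ext (by rw [Submodule.coe_add, hv2, Submodule.coe_zero])
  have m1 := hmove w₀ w₁ hw0 n0 n1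
  have m2 := hmove w₀ (w₀ + w₁) hw0 n1 (by rwa [← add_assoc, hw00, zero_add])
  rw [Submodule.coe_add, ← eG_mul hst.qu (hperp w₀) (hperp w₁), map_mul, ← m1] at m2
  exact left_eq_mul.1 m2

/-- The same over the field with three elements, up to squares. -/
theorem hom_aniso_three {A : Type*} [CommGroup A] (χ : eichGroup Q →* A) {s t : V} (hst : SingPair Q s t)
    (hfin : Module.finrank F (side Q s t) = 2) (h2ne : (2 : F) ≠ 0) (hsc : ∀ c : F, c ≠ 0 → c = 1 ∨ c = -1)
    (han : ∀ w : side Q s t, Q (w : V) = 0 → w = 0) (w₀ : side Q s t) :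
    χ (eG Q s (w₀ : V)) * χ (eG Q s (w₀ : V)) = 1 := by
  rcases eq_or_ne w₀ 0 with rfl | hw0
  · rw [Submodule.coe_zero, eG_zero hst.qu, map_one, mul_one]
  have hQne : ∀ x : side Q s t, x ≠ 0 → Q (x : V) ≠ 0 := fun x hx h0 => hx (han x h0)
  let L : side Q s t →ₗ[F] F := (QuadraticMap.polarBilin Q (w₀ : V)).comp (side Q s t).subtype
  obtain ⟨b, hb0, hwb⟩ : ∃ b : side Q s t, b ≠ 0 ∧ pl (w₀ : V) (b : V) = 0 := by
    have hk := LinearMap.finrank_range_add_finrank_ker L
    have hr := Submodule.finrank_le (LinearMap.range L)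
    rw [Module.finrank_self] at hr
    have hne : LinearMap.ker L ≠ ⊥ := fun hb => by rw [hb, finrank_bot, hfin] at hk; omega
    obtain ⟨b, hb, hb0⟩ := Submodule.exists_mem_ne_zero_of_ne_bot hne
    exact ⟨b, hb0, hb⟩
  have heq : Q (w₀ : V) = Q (b : V) := by
    have hne : w₀ + b ≠ 0 := fun h0 => by
      have e := congrArg Subtype.val (eq_neg_of_add_eq_zero_right h0)
      rw [Submodule.coe_neg] at e
      rw [e, QuadraticMap.polar_neg_right, quad_polar_self, neg_eq_zero] at hwb
      exact mul_ne_zero h2ne (hQne _ hw0) hwb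
    have hsum := hQne _ hne
    rw [Submodule.coe_add, quad_add, hwb, add_zero] at hsum
    rcases hsc _ (hQne _ hw0) with r1 | r1 <;> rcases hsc _ (hQne _ hb0) with r2 | r2 <;>
      rw [r1, r2] at hsum ⊢ <;> simp at hsum
  obtain ⟨g1, g2⟩ := flip_pair_apply hst (mem_side.1 w₀.2).1 (mem_side.1 w₀.2).2 (mem_side.1 b.2).1
    (mem_side.1 b.2).2 (hQne _ hw0) heq
  have hperp : pl s (w₀ : V) = 0 := (mem_side.1 w₀.2).1
  have e := eG_conj' (flip3 Q s t (w₀ : V) 1 * flip3 Q s t (b : V) 1) hst.qu hperp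
  rw [g1, g2 _ (mem_side.1 w₀.2).1 (mem_side.1 w₀.2).2, hwb, zero_div, zero_smul, sub_zero, quad_polar_self,
    mul_div_cancel_right₀ _ (hQne _ hw0), show (w₀ : V) - (2 : F) • (w₀ : V) = -(w₀ : V) by module,
    ← eG_inv hst.qu hperp] at e
  have e' := congrArg χ e
  rw [map_mul, map_mul χ (eG Q s (w₀ : V))⁻¹, map_inv, mul_comm (χ (eG Q s (w₀ : V)))⁻¹] at e'
  exact mul_eq_one_iff_eq_inv.2 (mul_left_cancel e')

section chi

variable {E : Type w} [Group E] {σ : E →* eichGroup Q} {p : ℕ} (hx : PExt σ p)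
  {u z : V} (h : SingPair Q u z) {e f : side Q u z} (he : SingPair (sideQ Q u z) e f)

set_option maxHeartbeats 2000000

/-- The Eichler group of the complement of two pairs. -/
noncomputable def emb2 : eichGroup (sideQ (sideQ Q u z) e f) →* eichGroup Q := (emb h).comp (emb he)

theorem emb2_fst (k : eichGroup (sideQ (sideQ Q u z) e f)) : act (emb2 h he k) u = u := emb_fst h _

theorem emb2_snd (k : eichGroup (sideQ (sideQ Q u z) e f)) : act (emb2 h he k) z = z := emb_snd h _

theorem emb2_e (k : eichGroup (sideQ (sideQ Q u z) e f)) : act (emb2 h he k) (e : V) = e := by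
  rw [emb2, MonoidHom.comp_apply, emb_side, emb_fst]

theorem emb2_f (k : eichGroup (sideQ (sideQ Q u z) e f)) : act (emb2 h he k) (f : V) = f := by
  rw [emb2, MonoidHom.comp_apply, emb_side, emb_snd]

theorem emb2_side (k : eichGroup (sideQ (sideQ Q u z) e f)) (w : side (sideQ Q u z) e f) :
    act (emb2 h he k) ((w : side Q u z) : V) = (((act k w : side (sideQ Q u z) e f) : side Q u z) : V) := by
  rw [emb2, MonoidHom.comp_apply, emb_side, emb_side]

theorem commute_emb2 (k : eichGroup (sideQ (sideQ Q u z) e f)) :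
    Commute (emb2 h he k) (eG Q u (e : V)) :=
  commute_of_fix h.qu (mem_side.1 e.2).1 (emb2_fst h he k) (emb2_e h he k)

/-- The action of the Eichler group of the complement on the lifts of the root element. -/
noncomputable def chi : eichGroup (sideQ (sideQ Q u z) e f) →* Subgroup.center E :=
  MonoidHom.mk' (fun k => ⟨cm hx.surj (emb2 h he k) (eG Q u (e : V)), cm_mem_center hx (commute_emb2 h he k)⟩)
    fun a b => Subtype.ext (by
      show cm hx.surj _ _ = cm hx.surj _ _ * cm hx.surj _ _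
      rw [map_mul, cm_mul_of_commute hx (commute_emb2 h he a) (commute_emb2 h he b)])

include hx h he

theorem chi_conj (g k : eichGroup (sideQ (sideQ Q u z) e f)) :
    chi hx h he (g * k * g⁻¹) = chi hx h he k := by
  rw [map_mul, map_mul, map_inv, mul_comm (chi hx h he g), mul_inv_cancel_right]

theorem chi_eG_add {s w w' : side (sideQ Q u z) e f} (hs : sideQ (sideQ Q u z) e f s = 0)
    (hw : QuadraticMap.polar (sideQ (sideQ Q u z) e f) s w = 0)
    (hw' : QuadraticMap.polar (sideQ (sideQ Q u z) e f) s w' = 0) :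
    chi hx h he (eG _ s (w + w')) = chi hx h he (eG _ s w) * chi hx h he (eG _ s w') := by
  rw [← eG_mul hs hw hw', map_mul]

theorem chi_eq_one_of_perfect (hQ : PolarNondeg Q) (hn : 9 ≤ Module.finrank F V)
    (k : eichGroup (sideQ (sideQ Q u z) e f)) : chi hx h he k = 1 := by
  revert k
  set Q₂ := sideQ (sideQ Q u z) e f
  intro k
  have hQ₂ : PolarNondeg Q₂ := polarNondeg_side (polarNondeg_side hQ h) he
  have hd₁ := finrank_side h
  have hd₂ := finrank_side he
  have hle : ⁅eichGroup Q₂, eichGroup Q₂⁆ ≤ (chi hx h he).ker.map (eichGroup Q₂).subtype := by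
    refine Subgroup.commutator_le.2 fun a ha b hb => ⟨⁅(⟨a, ha⟩ : eichGroup Q₂), (⟨b, hb⟩ : eichGroup Q₂)⁆, ?_, rfl⟩
    rw [SetLike.mem_coe, MonoidHom.mem_ker, map_commutatorElement, commutatorElement_eq_one_iff_mul_comm]
    exact mul_comm _ _
  rw [eichGroup_perfect Q₂ hQ₂ (by omega)] at hle
  obtain ⟨k', hk', e'⟩ := hle k.2
  rw [← (Subtype.ext e' : k' = k)]
  exact MonoidHom.mem_ker.mp hk'

/-- Root elements of two skew lines in a singular space of dimension four, in odd characteristic. -/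
theorem chi_eG_singular (hp : p.Prime) (hp2 : p ≠ 2) {s t : side (sideQ Q u z) e f}
    (hst : SingPair (sideQ (sideQ Q u z) e f) s t)
    {w w' : side (sideQ (sideQ Q u z) e f) s t}
    (hw : SingPair (sideQ (sideQ (sideQ Q u z) e f) s t) w w') :
    chi hx h he (eG _ s (w : side (sideQ Q u z) e f)) = 1 := by
  obtain ⟨e1, e2⟩ := mem_side.1 e.2
  obtain ⟨f1, f2⟩ := mem_side.1 f.2
  obtain ⟨s1, s2⟩ := mem_side.1 ((s : side Q u z)).2
  obtain ⟨t1, t2⟩ := mem_side.1 ((t : side Q u z)).2
  obtain ⟨w1, w2⟩ := mem_side.1 (((w : side (sideQ Q u z) e f) : side Q u z)).2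
  obtain ⟨v1, v2⟩ := mem_side.1 (((w' : side (sideQ Q u z) e f) : side Q u z)).2
  obtain ⟨s3, s4⟩ := mem_side.1 s.2
  obtain ⟨t3, t4⟩ := mem_side.1 t.2
  obtain ⟨w3, w4⟩ := mem_side.1 (w : side (sideQ Q u z) e f).2
  obtain ⟨v3, v4⟩ := mem_side.1 (w' : side (sideQ Q u z) e f).2
  obtain ⟨w5, w6⟩ := mem_side.1 w.2
  obtain ⟨v5, v6⟩ := mem_side.1 w'.2
  set S : V := ((s : side Q u z) : V) with hS
  set T : V := ((t : side Q u z) : V) with hT
  set W : V := (((w : side (sideQ Q u z) e f) : side Q u z) : V) with hW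
  set W' : V := (((w' : side (sideQ Q u z) e f) : side Q u z) : V) with hW'
  have hst' : SingPair Q S T := ⟨hst.qu, hst.qz, hst.uz⟩
  have hww' : SingPair Q W W' := ⟨hw.qu, hw.qz, hw.uz⟩
  have he' : SingPair Q (e : V) (f : V) := ⟨he.qu, he.qz, he.uz⟩
  have hSW : pl S W = 0 := w5
  have hSW' : pl S W' = 0 := v5
  have hTW : pl T W = 0 := w6
  have hTW' : pl T W' = 0 := v6
  have heS : pl (e : V) S = 0 := s3
  have hfS : pl (f : V) S = 0 := s4
  have heT : pl (e : V) T = 0 := t3
  have hfT : pl (f : V) T = 0 := t4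
  have heW : pl (e : V) W = 0 := w3
  have hfW : pl (f : V) W = 0 := w4
  have heW' : pl (e : V) W' = 0 := v3
  have c : ∀ {a b : V}, pl a b = 0 → pl b a = 0 := fun {a b} hab => (QuadraticMap.polar_comm Q b a).trans hab
  obtain ⟨g₁, gu, gS, g1fix⟩ := exists_move2 h hst' s1 t1 s2
  obtain ⟨g₂, ge, gW, g2fix⟩ := exists_move2 he' hww' heW heW' hfW
  have a1 : act g₁ (e : V) = e := g1fix _ (c e1) (c e2) heS heT
  have a2 : act g₁ W = W := g1fix _ (c w1) (c w2) (c hSW) (c hTW)
  have b1 : act g₂ S = S := g2fix _ (c heS) (c hfS) hSW hSW'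
  have b2 : act g₂ u = u := g2fix _ e1 f1 w1 v1
  have gg : ∀ x, act (g₂ * g₁) x = act g₂ (act g₁ x) := fun x => act_mul _ _ _
  have c1 : act (g₂ * g₁) u = S := by rw [gg, gu, b1]
  have c2 : act (g₂ * g₁) (e : V) = W := by rw [gg, a1, ge]
  have c3 : act (g₂ * g₁) S = -u := by rw [gg, gS, act_neg, b2]
  have c4 : act (g₂ * g₁) W = -(e : V) := by rw [gg, a2, gW]
  have hue : pl u (e : V) = 0 := e1
  have hconj1 : (g₂ * g₁) * eG Q u (e : V) * (g₂ * g₁)⁻¹ = eG Q S W := by
    rw [mul_inv_eq_iff_eq_mul, eG_conj' _ h.qu hue, c1, c2]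
  have hconj2 : (g₂ * g₁) * eG Q S W * (g₂ * g₁)⁻¹ = eG Q u (e : V) := by
    rw [mul_inv_eq_iff_eq_mul, eG_conj' _ hst'.qu hSW, c3, c4, ← neg_one_smul F u,
      eG_smul_left h.qu (by rw [QuadraticMap.polar_neg_right, hue, neg_zero]), neg_one_smul, neg_neg]
  have hcomm : Commute (eG Q S W) (eG Q u (e : V)) :=
    commute_of_fix h.qu hue (eG_fix_of hst'.qu hSW s1 w1) (eG_fix_of hst'.qu hSW heS heW)
  have key : cm hx.surj (eG Q S W) (eG Q u (e : V)) = cm hx.surj (eG Q u (e : V)) (eG Q S W) := by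
    conv_lhs => rw [← cm_conj_eq hx.surj hx.cen hcomm (g₂ * g₁), hconj2, hconj1]
  have hsq : cm hx.surj (eG Q S W) (eG Q u (e : V)) * cm hx.surj (eG Q S W) (eG Q u (e : V)) = 1 := by
    conv_lhs => arg 1; rw [key, ← cm_inv]
    rw [inv_mul_cancel]
  have e' : emb2 h he (eG (sideQ (sideQ Q u z) e f) s (w : side (sideQ Q u z) e f)) = eG Q S W := by
    rw [emb2, MonoidHom.comp_apply, emb_eG he hst.qu w5, emb_eG h (show Q S = 0 from hst.qu) w5]
  refine Subtype.ext ?_
  show cm hx.surj _ _ = 1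
  rw [e']
  exact eq_one_of_sq hx hp hp2 (cm_mem_ker hx hcomm) hsq

/-- The complement of two pairs centralises the lifts of the root element. -/
theorem chi_eq_one (hQ : PolarNondeg Q) (hn : 8 ≤ Module.finrank F V) (hp : p.Prime) [CharP F p]
    (hq : Fintype.card F = 2 ∨ Fintype.card F = 3) (hN : NoFour Q)
    (k : eichGroup (sideQ (sideQ Q u z) e f)) : chi hx h he k = 1 := by
  by_cases hn9 : 9 ≤ Module.finrank F V
  · exact chi_eq_one_of_perfect hx h he hQ hn9 k
  revert k
  set Q₂ := sideQ (sideQ Q u z) e f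
  intro k
  have hQ₂ : PolarNondeg Q₂ := polarNondeg_side (polarNondeg_side hQ h) he
  have hd₁ := finrank_side h
  have hd₂ := finrank_side he
  suffices hgen : ∀ s w : side (sideQ Q u z) e f, Q₂ s = 0 → QuadraticMap.polar Q₂ s w = 0 →
      chi hx h he (eG Q₂ s w) = 1 by
    have hle : eichGroup Q₂ ≤ (chi hx h he).ker.map (eichGroup Q₂).subtype :=
      (Subgroup.closure_le _).2 fun x ⟨s, w, hs, hsw, hxe⟩ => ⟨eG Q₂ s w, hgen s w hs hsw, hxe.symm⟩
    obtain ⟨k', hk', e'⟩ := hle k.2
    rw [← (Subtype.ext e' : k' = k)]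
    exact MonoidHom.mem_ker.mp hk'
  intro s w hs hsw
  rcases eq_or_ne s 0 with rfl | hs0
  · rw [eG_zero_left, map_one]
  obtain ⟨t, hst⟩ := exists_pair hQ₂ hs hs0
  obtain ⟨w₀, ew, -⟩ := eG_side_eq hst hsw
  rw [ew]
  set Q₃ : QuadraticForm F (side Q₂ s t) := sideQ Q₂ s t with hQ₃def
  have hQ₃ := polarNondeg_side hQ₂ hst
  have hd₃ := finrank_side hst
  have hperp : ∀ x : side Q₂ s t, QuadraticMap.polar Q₂ s (x : side (sideQ Q u z) e f) = 0 :=
    fun x => (mem_side.1 x.2).1
  have htwo : p = 2 ↔ Fintype.card F = 2 := by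
    constructor
    · rintro rfl
      refine hq.resolve_right fun h3 => ?_
      haveI : Fact (Nat.Prime 3) := ⟨Nat.prime_three⟩
      have := CharP.eq F (charP_of_card_eq_prime h3) ‹CharP F 2›
      omega
    · intro h2
      haveI : Fact (Nat.Prime 2) := ⟨Nat.prime_two⟩
      exact CharP.eq F ‹CharP F p› (charP_of_card_eq_prime h2)
  by_cases hiso : ∃ x : side Q₂ s t, x ≠ 0 ∧ Q₃ x = 0
  · obtain ⟨a, ha0, ha⟩ := hiso
    obtain ⟨b, hab⟩ := exists_pair hQ₃ ha ha0
    have hp2 : p ≠ 2 := fun e2 =>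
      ha0 (hN (htwo.1 e2) (by omega) u z h e f he s t hst a ha)
    have hsing : ∀ x : side Q₂ s t, Q₃ x = 0 → chi hx h he (eG Q₂ s (x : side (sideQ Q u z) e f)) = 1 := by
      intro x hx0
      rcases eq_or_ne x 0 with rfl | hne
      · rw [Submodule.coe_zero, eG_zero hs, map_one]
      · obtain ⟨y, hxy⟩ := exists_pair hQ₃ hx0 hne
        exact chi_eG_singular hx h he hp hp2 hst hxy
    obtain ⟨c, d, hc, hd, hcd⟩ := exists_sum_of_pair hQ₃ hab w₀
    rw [hcd, Submodule.coe_add, chi_eG_add hx h he hs (hperp c) (hperp d), hsing c hc, hsing d hd, one_mul]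
  · push Not at hiso
    have han : ∀ x : side Q₂ s t, Q₂ (x : side (sideQ Q u z) e f) = 0 → x = 0 := fun x h0 =>
      by_contra fun hne => hiso x hne h0
    have hfin : Module.finrank F (side Q₂ s t) = 2 := by omega
    have hsc : ∀ c : F, c ≠ 0 → c ^ (Fintype.card F - 1) = 1 := fun c hc =>
      FiniteField.pow_card_sub_one_eq_one c hc
    rcases hq with h2 | h3
    · exact hom_aniso_two (chi hx h he) hst hfin
        (fun c => (eq_or_ne c 0).imp_right fun hc => by simpa [h2] using hsc c hc) han w₀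
    · have hp2 : p ≠ 2 := fun e2 => by have := htwo.1 e2; omega
      haveI : Fact (Nat.Prime 3) := ⟨Nat.prime_three⟩
      haveI := charP_of_card_eq_prime h3
      have h3' : (3 : F) = 0 := by exact_mod_cast CharP.cast_eq_zero F 3
      have h2ne : (2 : F) ≠ 0 := fun h0 => one_ne_zero (α := F) (by linear_combination h3' - h0)
      have hk := hom_aniso_three (chi hx h he) hst hfin h2ne
        (fun c hc => mul_self_eq_one_iff.1 (by simpa [h3, pow_two] using hsc c hc)) han w₀
      exact Subtype.ext (eq_one_of_sq hx hp hp2 (cm_mem_ker hx (commute_emb2 h he _))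
        (congrArg Subtype.val hk))

/-- The stabiliser of two orthogonal singular vectors and a partner centralises the lifts of their root element. -/
theorem cm_stab (hQ : PolarNondeg Q) (hn : 8 ≤ Module.finrank F V) (hp : p.Prime) [CharP F p]
    (hq : Fintype.card F = 2 ∨ Fintype.card F = 3) (hN : NoFour Q)
    {g : eichGroup Q} (gu : act g u = u) (gz : act g z = z) (ge : act g (e : V) = e) :
    cm hx.surj g (eG Q u (e : V)) = 1 := by
  set Q₁ := sideQ Q u z
  have hQ₁ : PolarNondeg Q₁ := polarNondeg_side hQ h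
  have hd₁ := finrank_side h
  have hd₂ := finrank_side he
  obtain ⟨e1, e2⟩ := mem_side.1 e.2
  have heq0 : Q (e : V) = 0 := he.qu
  have gf : act g (f : V) ∈ side Q u z := by
    obtain ⟨a, b⟩ := mem_side.1 f.2
    rw [mem_side]
    rw [← act_polar g] at a b
    rw [gu] at a
    rw [gz] at b
    exact ⟨a, b⟩
  obtain ⟨w, hw, hwf⟩ := exists_eich_move Q₁ (u := f) (u' := ⟨_, gf⟩) (v := e) he.qz
    (show Q (act g (f : V)) = 0 by rw [act_quad]; exact he.qz) he.qu
    (show pl (f : V) (e : V) = pl (act g (f : V)) (e : V) by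
      conv_rhs => rw [← ge]
      rw [act_polar])
    (by rw [show QuadraticMap.polar Q₁ f e = 1 from he.zu]; exact one_ne_zero)
  have hew : pl (e : V) (w : V) = 0 := hw
  set k₁ := emb h (eG Q₁ e w) with hk₁
  have k1eG : k₁ = eG Q (e : V) (w : V) := emb_eG h he.qu hew
  have k1f : act k₁ (f : V) = act g (f : V) := by
    rw [hk₁, emb_side]
    exact congrArg Subtype.val hwf
  have k1e : act k₁ (e : V) = e := by rw [k1eG, eG_fix heq0 hew]
  set g' := k₁⁻¹ * g with hg'
  have back : ∀ x, act k₁ x = act g x → act g' x = x := fun x hx' => by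
    rw [hg', act_mul, ← hx', act_inv_act]
  have g'u : act g' u = u := back _ (by rw [hk₁, emb_fst, gu])
  have g'z : act g' z = z := back _ (by rw [hk₁, emb_snd, gz])
  have g'e : act g' (e : V) = e := back _ (by rw [k1e, ge])
  have g'f : act g' (f : V) = f := back _ k1f
  have hcm' : Commute g' (eG Q u (e : V)) := commute_of_fix h.qu e1 g'u g'e
  have hcm₁ : Commute k₁ (eG Q u (e : V)) :=
    commute_of_fix h.qu e1 (by rw [hk₁, emb_fst]) k1e
  have hk1cm : cm hx.surj k₁ (eG Q u (e : V)) = 1 := by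
    rw [k1eG, eG_symm h.qu heq0 e1]
    exact cm_perp hx hQ (by omega) heq0 hew
      (by rw [QuadraticMap.polar_neg_right, QuadraticMap.polar_comm Q (e : V) u, e1, neg_zero])
      (by rw [QuadraticMap.polar_neg_right, QuadraticMap.polar_comm Q (w : V) u, (mem_side.1 w.2).1, neg_zero])
  rw [show g = k₁ * g' by rw [hg', mul_inv_cancel_left], cm_mul_of_commute hx hcm₁ hcm', hk1cm, one_mul]
  -- the element fixing both pairs
  set k'' := restr (restr (g' : qAut Q) g'u g'z) (Subtype.ext g'e) (Subtype.ext g'f) with hk''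
  have hchi : ∀ k, chi hx h he k = 1 := chi_eq_one hx h he hQ hn hp hq hN
  have happ : ∀ x : side Q₁ e f, (((k''.1 x : side Q₁ e f) : side Q u z) : V) =
      act g' ((x : side Q u z) : V) := fun x => rfl
  rcases hq with h2 | h3
  · have hsc : ∀ c : F, c = 0 ∨ c = 1 := fun c => by
      by_contra hc
      push Not at hc
      classical
      have : ({0, 1, c} : Finset F).card ≤ Fintype.card F := Finset.card_le_univ _
      rw [Finset.card_insert_of_notMem (by simp [hc.1.symm]), Finset.card_pair hc.2.symm, h2] at this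
      omega
    have hQ₂ : PolarNondeg (sideQ Q₁ e f) := polarNondeg_side hQ₁ he
    obtain ⟨v, -, hv⟩ := exists_aniso_in (sideQ Q₁ e f) (P := ⊤)
      (fun x _ hx' => hQ₂ x fun y => hx' y trivial) (fun hb => by
        have := finrank_top F (side Q₁ e f)
        rw [hb, finrank_bot] at this
        omega)
    rcases mem_or_refl_mul_mem hQ₂ (by omega) hsc (refl_sup_eich hQ₂ (by omega)) hv k'' with hk | hk
    · have e' : emb2 h he ⟨k'', hk⟩ = g' := Subtype.ext (qAut_eq_two h he
        ((emb2_fst h he _).trans g'u.symm) ((emb2_snd h he _).trans g'z.symm)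
        ((emb2_e h he _).trans g'e.symm) ((emb2_f h he _).trans g'f.symm)
        fun x => (emb2_side h he ⟨k'', hk⟩ x).trans (happ x))
      rw [← e']
      exact congrArg Subtype.val (hchi ⟨k'', hk⟩)
    · exfalso
      have hv' : Q (((v : side Q₁ e f) : side Q u z) : V) ≠ 0 := hv
      obtain ⟨v1, v2⟩ := mem_side.1 ((v : side Q u z)).2
      obtain ⟨v3, v4⟩ := mem_side.1 v.2
      have e' : ((emb2 h he ⟨_, hk⟩ : eichGroup Q) : qAut Q) = qRefl Q hv' * (g' : qAut Q) := by
        refine qAut_eq_two h he ?_ ?_ ?_ ?_ fun x => ?_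
        · exact (emb2_fst h he ⟨_, hk⟩).trans ((qRefl_fix Q hv' v1).symm.trans
            (congrArg (qRefl Q hv').1 g'u.symm))
        · exact (emb2_snd h he ⟨_, hk⟩).trans ((qRefl_fix Q hv' v2).symm.trans
            (congrArg (qRefl Q hv').1 g'z.symm))
        · exact (emb2_e h he ⟨_, hk⟩).trans ((qRefl_fix Q hv' v3).symm.trans
            (congrArg (qRefl Q hv').1 g'e.symm))
        · exact (emb2_f h he ⟨_, hk⟩).trans ((qRefl_fix Q hv' v4).symm.trans
            (congrArg (qRefl Q hv').1 g'f.symm))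
        · refine (emb2_side h he ⟨_, hk⟩ x).trans ?_
          change (((qRefl (sideQ Q₁ e f) hv).1 (k''.1 x) : side Q₁ e f) : side Q u z).1 = _
          rw [qAut_mul_apply, qRefl_apply, qRefl_apply, Submodule.coe_sub, Submodule.coe_sub, Submodule.coe_smul,
            Submodule.coe_smul]
          rfl
      obtain ⟨D, hD⟩ := exists_parity Q hQ (Or.inr (by omega))
      have hker : ∀ x ∈ eichGroup Q, D x = 1 := fun x hx' => by
        rw [eichGroup_eq_commutator Q hQ (by omega)] at hx'
        exact Abelianization.commutator_subset_ker D hx'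
      have hmem : qRefl Q hv' ∈ eichGroup Q := by
        have := mul_mem (emb2 h he ⟨_, hk⟩).2 (inv_mem g'.2)
        rwa [e', mul_inv_cancel_right] at this
      have := hker _ hmem
      rw [hD] at this
      exact absurd this (by decide)
  · have hp2 : p ≠ 2 := fun e2 => by
      subst e2
      haveI : Fact (Nat.Prime 3) := ⟨Nat.prime_three⟩
      have := CharP.eq F (charP_of_card_eq_prime h3) ‹CharP F 2›
      omega
    have hk := sq_mem_eichGroup (polarNondeg_side hQ₁ he) (by omega) (Or.inl (by omega)) k''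
    have e' : emb2 h he ⟨_, hk⟩ = g' * g' := Subtype.ext (qAut_eq_two h he
      ((emb2_fst h he _).trans (by rw [← act]; simp only [act_mul, g'u]))
      ((emb2_snd h he _).trans (by rw [← act]; simp only [act_mul, g'z]))
      ((emb2_e h he _).trans (by rw [← act]; simp only [act_mul, g'e]))
      ((emb2_f h he _).trans (by rw [← act]; simp only [act_mul, g'f]))
      fun x => (emb2_side h he ⟨_, hk⟩ x).trans rfl)
    have h1 := congrArg Subtype.val (hchi ⟨_, hk⟩)
    change cm hx.surj (emb2 h he ⟨_, hk⟩) _ = 1 at h1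
    rw [e', cm_mul_of_commute hx hcm' hcm'] at h1
    exact eq_one_of_sq hx hp hp2 (cm_mem_ker hx hcm') h1

end chi

end CfsgLib.Known.OrthLift
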