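import Cfsg.Agent.Lib.Known.OrthLift.Chi

/-!
# Lifts at a point commute over the field with two elements

The pairing at a point of a singular line is the sum of the pairings at two other points of the line.
-/

set_option autoImplicit false
set_option linter.unusedSectionVars false
set_option maxHeartbeats 1000000

namespace CfsgLib.Known.OrthLift

open CfsgLib.Classical CfsgLib.OrthMinIndex CfsgLib.Known.CentralComm CfsgLib.Known.SL2Lift
open scoped commutatorElement IsMulCommutative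

universe u v w

variable {F : Type u} [Field F] [Fintype F] {V : Type v} [AddCommGroup V] [Module F V] [FiniteDimensional F V]
  {Q : QuadraticForm F V} {E : Type w} [Group E] {σ : E →* eichGroup Q} {p : ℕ} (hx : PExt σ p)

local notation "pl" => QuadraticMap.polar Q

include hx

theorem conj_of_commute {y k : E} (hk : Commute y k) : y * k * y⁻¹ = k := by
  rw [hk.eq, mul_inv_cancel_right]

/-- The pairing of a hyperbolic pair vanishes. -/
theorem cm_pair_eq_one (hQ : PolarNondeg Q) (hn : 8 ≤ Module.finrank F V) (hp : p.Prime) [CharP F p]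
    (hq : Fintype.card F = 2 ∨ Fintype.card F = 3) (hN : NoFour Q) {u z : V} (h : SingPair Q u z)
    {e f : side Q u z} (he : SingPair (sideQ Q u z) e f) {e₁ f₁ : side (sideQ Q u z) e f}
    (he₁ : SingPair (sideQ (sideQ Q u z) e f) e₁ f₁) :
    cm hx.surj (eG Q u ((e₁ : side Q u z) : V)) (eG Q u ((f₁ : side Q u z) : V)) = 1 := by
  obtain ⟨a, ha⟩ : ∃ a : V, a = ((e₁ : side Q u z) : V) := ⟨_, rfl⟩
  obtain ⟨b, hb⟩ : ∃ b : V, b = ((f₁ : side Q u z) : V) := ⟨_, rfl⟩
  obtain ⟨c, hc⟩ : ∃ c : V, c = (e : V) := ⟨_, rfl⟩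
  obtain ⟨d, hd⟩ : ∃ d : V, d = (f : V) := ⟨_, rfl⟩
  have hu := h.qu
  have hQc : Q c = 0 := hc ▸ he.qu
  have hcd : SingPair Q c d := ⟨hQc, hd ▸ he.qz, hc ▸ hd ▸ he.uz⟩
  have hQa : Q a = 0 := ha ▸ he₁.qu
  have hQb : Q b = 0 := hb ▸ he₁.qz
  have hab : pl a b = 1 := ha ▸ hb ▸ he₁.uz
  obtain ⟨huc, hzc⟩ : pl u c = 0 ∧ pl z c = 0 := hc ▸ mem_side.1 e.2
  obtain ⟨hud, hzd⟩ : pl u d = 0 ∧ pl z d = 0 := hd ▸ mem_side.1 f.2
  obtain ⟨hua, hza⟩ : pl u a = 0 ∧ pl z a = 0 := ha ▸ mem_side.1 (e₁ : side Q u z).2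
  obtain ⟨hub, hzb⟩ : pl u b = 0 ∧ pl z b = 0 := hb ▸ mem_side.1 (f₁ : side Q u z).2
  obtain ⟨hca, hda⟩ : pl c a = 0 ∧ pl d a = 0 := hc ▸ hd ▸ ha ▸ mem_side.1 e₁.2
  obtain ⟨hcb, hdb⟩ : pl c b = 0 ∧ pl d b = 0 := hc ▸ hd ▸ hb ▸ mem_side.1 f₁.2
  rw [← ha, ← hb]
  have sw : ∀ {x y : V}, pl x y = 0 → pl y x = 0 := fun {x y} hxy => (QuadraticMap.polar_comm Q y x).trans hxy
  have neg : ∀ {x y : V}, pl x y = 0 → pl x (-y) = 0 := fun {x y} hxy => by
    rw [QuadraticMap.polar_neg_right, hxy, neg_zero]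
  have hperp := @cm_perp _ _ _ _ _ _ _ _ _ _ hx _ _ hQ (show 6 ≤ Module.finrank F V by omega)
  -- transformations in the two points
  obtain ⟨la, hla⟩ := hx.surj (eG Q u a)
  obtain ⟨lb, hlb⟩ := hx.surj (eG Q u b)
  obtain ⟨lc, hlc⟩ := hx.surj (eG Q c a)
  obtain ⟨ld, hld⟩ := hx.surj (eG Q c b)
  have com : ∀ {g g' : eichGroup Q} {x y : E}, σ x = g → σ y = g' → cm hx.surj g g' = 1 → Commute x y :=
    fun h1 h2 h3 => commute_of_cm hx.surj hx.cen h1 h2 h3
  have hac : Commute la lc := com hla hlc (by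
    rw [eG_symm hu hQa hua, eG_symm hQc hQa hca]
    exact hperp hQa (neg (sw hua)) (neg (sw hca))
      (by rw [QuadraticMap.polar_neg_left, QuadraticMap.polar_neg_right, huc, neg_zero, neg_zero]))
  have hbd : Commute lb ld := com hlb hld (by
    rw [eG_symm hu hQb hub, eG_symm hQc hQb hcb]
    exact hperp hQb (neg (sw hub)) (neg (sw hcb))
      (by rw [QuadraticMap.polar_neg_left, QuadraticMap.polar_neg_right, huc, neg_zero, neg_zero]))
  -- the root element of the line
  have hg : ⁅eG Q u a, eG Q c b⁆ = eG Q u c := by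
    have e1 : eG Q c b * eG Q u a * (eG Q c b)⁻¹ = eG Q u (a + -c) := by
      rw [mul_inv_eq_iff_eq_mul, eG_conj' _ hu hua, eG_fix_of hQc hcb huc hub, eG_apply hQc hcb, sw hca,
        hab, hQb]
      simp [sub_eq_add_neg]
    have hua' : pl u (a + -c) = 0 := by rw [QuadraticMap.polar_add_right, hua, neg huc, add_zero]
    rw [commutatorElement_def, show eG Q u a * eG Q c b * (eG Q u a)⁻¹ * (eG Q c b)⁻¹ =
      eG Q u a * (eG Q c b * eG Q u a * (eG Q c b)⁻¹)⁻¹ by group, e1, eG_inv hu hua',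
      eG_mul hu hua (neg hua')]
    congr 1
    abel
  obtain ⟨k, hk⟩ : ∃ k : E, k = ⁅la, ld⁆ := ⟨_, rfl⟩
  have hσk : σ k = eG Q u c := by rw [hk, map_commutatorElement, hla, hld, hg]
  have hcu : pl c (-u) = 0 := neg (sw huc)
  have kla : Commute k la := com hσk hla (hperp hu huc hua hca)
  have klb : Commute k lb := com hσk hlb (hperp hu huc hub hcb)
  have klc : Commute k lc := com hσk hlc (by
    rw [eG_symm hu hQc huc]
    exact hperp hQc hcu hca (by rw [QuadraticMap.polar_neg_left, hua, neg_zero]))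
  -- exchanging the partners
  have hd₁ := finrank_side h
  have hd₂ := finrank_side he
  have hQ₂ : PolarNondeg (sideQ (sideQ Q u z) e f) := polarNondeg_side (polarNondeg_side hQ h) he
  obtain ⟨g₀, hg₀, hga, hgb⟩ := exists_move_pair (sideQ (sideQ Q u z) e f) hQ₂ (by omega) he₁.qu he₁.qz he₁.uz
    he₁.qz he₁.qu he₁.zu
  set g := emb2 h he ⟨g₀, hg₀⟩ with hgdef
  have gu : act g u = u := emb2_fst h he _
  have gc : act g c = c := by rw [hc]; exact emb2_e h he _
  have ga : act g a = b := by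
    rw [ha, hb, hgdef, emb2_side]
    exact congrArg (fun x : side (sideQ Q u z) e f => ((x : side Q u z) : V)) hga
  have gb : act g b = a := by
    rw [ha, hb, hgdef, emb2_side]
    exact congrArg (fun x : side (sideQ Q u z) e f => ((x : side Q u z) : V)) hgb
  obtain ⟨y, hy⟩ := hx.surj g
  have hyk : Commute y k := com hy hσk (by
    have h1 := congrArg Subtype.val (chi_eq_one hx h he hQ hn hp hq hN ⟨g₀, hg₀⟩)
    rw [hc]
    exact h1)
  have hswap : k = ⁅lb, lc⁆ := by
    have e1 : σ (y * la * y⁻¹) = eG Q u b := by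
      rw [map_mul, map_mul, map_inv, hy, hla, mul_inv_eq_iff_eq_mul, eG_conj' _ hu hua, gu, ga]
    have e2 : σ (y * ld * y⁻¹) = eG Q c a := by
      rw [map_mul, map_mul, map_inv, hy, hld, mul_inv_eq_iff_eq_mul, eG_conj' _ hQc hcb, gc, gb]
    calc k = y * k * y⁻¹ := (conj_of_commute hx hyk).symm
      _ = ⁅y * la * y⁻¹, y * ld * y⁻¹⁆ := by rw [hk, commutatorElement_def, commutatorElement_def]; group
      _ = cm hx.surj (eG Q u b) (eG Q c a) := cm_eq hx.surj hx.cen e1 e2
      _ = ⁅lb, lc⁆ := (cm_eq hx.surj hx.cen hlb hlc).symm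
  have hcb' : ⁅lc, lb⁆ = k⁻¹ := by rw [hswap, commutatorElement_inv]
  -- the pairings at the three points
  obtain ⟨P, hP⟩ : ∃ P : E, P = ⁅la, lb⁆ := ⟨_, rfl⟩
  have hPu : P = cm hx.surj (eG Q u a) (eG Q u b) := hP.trans (cm_eq hx.surj hx.cen hla hlb)
  have hcom : Commute (eG Q u a) (eG Q u b) := commute_eG hu hua hub
  have hPc : ∀ x, x * P = P * x := fun x => by rw [hPu]; exact cm_central hx.surj hx.cen hcom x
  have hP' : ⁅lc, ld⁆ = P := by
    obtain ⟨g₁, g1u, -, g1fix⟩ := exists_move2 h hcd huc hud hzc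
    have a1 : act g₁ a = a := g1fix _ (sw hua) (sw hza) (sw hca) (sw hda)
    have b1 : act g₁ b = b := g1fix _ (sw hub) (sw hzb) (sw hcb) (sw hdb)
    rw [cm_eq hx.surj hx.cen hlc hld, hPu, ← cm_conj_eq hx.surj hx.cen hcom g₁]
    congr 1 <;> rw [eq_comm, mul_inv_eq_iff_eq_mul, eG_conj' _ hu (by assumption), g1u]
    · rw [a1]
    · rw [b1]
  have hsum : ⁅la * lc, lb * ld⁆ = P := by
    have hcz : pl c (-z) = 0 := neg (sw hzc)
    have fa : act (eG Q c (-z)) a = a := eG_fix_of hQc hcz (sw hca) (neg (sw hza))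
    have fb : act (eG Q c (-z)) b = b := eG_fix_of hQc hcz (sw hcb) (neg (sw hzb))
    have fu : act (eG Q c (-z)) u = u + c := by
      rw [eG_apply hQc hcz, huc, QuadraticMap.polar_neg_right, h.uz]
      simp
    have hQuc : Q (u + c) = 0 := by rw [quad_add, hu, hQc, huc]; simp
    have hsum : ∀ x, Q x = 0 → pl u x = 0 → pl c x = 0 →
        eG Q u x * eG Q c x = eG Q (u + c) x := fun x hQx h1 h2 => by
      rw [eG_symm hu hQx h1, eG_symm hQc hQx h2, eG_mul hQx (neg (sw h1)) (neg (sw h2)),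
        eG_symm hQuc hQx (by rw [QuadraticMap.polar_add_left, h1, h2, add_zero]), neg_add]
    rw [hPu, ← cm_conj_eq hx.surj hx.cen hcom (eG Q c (-z))]
    refine cm_eq hx.surj hx.cen ?_ ?_
    · rw [map_mul, hla, hlc, hsum a hQa hua hca, eq_comm, mul_inv_eq_iff_eq_mul, eG_conj' _ hu hua, fu, fa]
    · rw [map_mul, hlb, hld, hsum b hQb hub hcb, eq_comm, mul_inv_eq_iff_eq_mul, eG_conj' _ hu hub, fu, fb]
  have h1 : ⁅lc, lb * ld⁆ = k⁻¹ * P := by
    rw [comm_mul_right, hcb', hP', hPc lb, mul_inv_cancel_right]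
  have h2 : ⁅la, lb * ld⁆ = P * k := by
    rw [comm_mul_right, ← hP, ← hk, conj_of_commute hx klb.symm]
  have e : k⁻¹ * P * (P * k) = P := by
    rw [comm_mul_left, h1, h2] at hsum
    rwa [conj_of_commute hx ((kla.symm.inv_right).mul_right (hPc la))] at hsum
  rw [← hPu]
  have e' : P * P = P := by
    calc P * P = k⁻¹ * (k * (P * P)) := by group
      _ = k⁻¹ * (P * P * k) := by
        congr 1
        calc k * (P * P) = k * P * P := by group
          _ = P * (k * P) := (congrArg (· * P) (hPc k)).trans (mul_assoc P k P)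
          _ = P * P * k := (congrArg (P * ·) (hPc k)).trans (mul_assoc P P k).symm
      _ = k⁻¹ * P * (P * k) := by group
      _ = P := e
  exact mul_eq_left.1 e'

/-- Lifts at a point commute over the field with two elements. -/
theorem comm_two (hQ : PolarNondeg Q) (hn : 8 ≤ Module.finrank F V) (hp : p.Prime) [CharP F p]
    (h2 : Fintype.card F = 2) (hN : NoFour Q) : Comm hx.surj := by
  have hsc : ∀ c : F, c = 0 ∨ c = 1 := fun c => (eq_or_ne c 0).imp_right fun hc => by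
    simpa [h2] using FiniteField.pow_card_sub_one_eq_one c hc
  refine comm_of_bet hx hQ fun u z h a b => ?_
  obtain ⟨ψ, hψ, -⟩ := bet_eq_psi hx hQ (by omega) h
  have hd₁ := finrank_side h
  have hQ₁ : PolarNondeg (sideQ Q u z) := polarNondeg_side hQ h
  obtain ⟨e, he0, he⟩ := exists_singular (sideQ Q u z) hQ₁ (by omega)
  obtain ⟨f, hef⟩ := exists_pair hQ₁ he he0
  have hd₂ := finrank_side hef
  have hQ₂ : PolarNondeg (sideQ (sideQ Q u z) e f) := polarNondeg_side hQ₁ hef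
  obtain ⟨e₁, he₁0, he₁⟩ := exists_singular (sideQ (sideQ Q u z) e f) hQ₂ (by omega)
  obtain ⟨f₁, hef₁⟩ := exists_pair hQ₂ he₁ he₁0
  have key := cm_pair_eq_one hx hQ hn hp (Or.inl h2) hN h hef hef₁
  have hψ1 : ψ 1 = 0 := by
    rw [← show pl ((e₁ : side Q u z) : V) ((f₁ : side Q u z) : V) = (1 : F) from hef₁.uz, ← hψ]
    exact congrArg Additive.ofMul (Subtype.ext key)
  have hz : bet hx h a b = 0 := by
    rw [hψ]
    rcases hsc (pl (a : V) (b : V)) with r | r <;> rw [r]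
    · exact map_zero ψ
    · exact hψ1
  rw [← coe_bet hx h, hz]
  rfl

end CfsgLib.Known.OrthLift
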