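import Cfsg.Agent.Lib.Known.OrthLift.Intrinsic
import Cfsg.Agent.Lib.Known.ChevLift.Central

/-!
# Commutators of lifts of Eichler transformations

In a central extension of the Eichler group with kernel a `p`-group, lifts of the transformations at one
singular point commute, up to the field with two elements.
-/

set_option autoImplicit false
set_option linter.unusedSectionVars false

namespace CfsgLib.Known.OrthLift

open CfsgLib.Classical CfsgLib.OrthMinIndex CfsgLib.Known.CentralComm
open scoped commutatorElement IsMulCommutative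

universe u v w

variable {F : Type u} [Field F] {V : Type v} [AddCommGroup V] [Module F V] {Q : QuadraticForm F V}

local notation "pl" => QuadraticMap.polar Q

/-- The standing assumptions on an extension. -/
structure PExt {E : Type w} [Group E] (σ : E →* eichGroup Q) (p : ℕ) : Prop where
  surj : Function.Surjective σ
  cen : σ.ker ≤ Subgroup.center E
  pker : IsPGroup p σ.ker

theorem eG_zero_left (w : V) : eG Q (0 : V) w = 1 := act_ext fun x => by
  rw [eG_apply (map_zero Q) (QuadraticMap.polar_zero_left Q w)]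
  simp [act_one]

theorem act_eq_of_pair {u z : V} (h : SingPair Q u z) {g g' : eichGroup Q} (hu : act g u = act g' u)
    (hz : act g z = act g' z) (hs : ∀ w : side Q u z, act g (w : V) = act g' w) : g = g' :=
  act_ext fun x => by
    obtain ⟨w, hw, e⟩ := exists_side_decomp h x
    rw [e, act_add, act_add, act_smul, act_smul, act_add, act_add, act_smul, act_smul, hu, hz,
      hs ⟨w, hw⟩]

/-- The Eichler group of the complement of a pair, in the whole group. -/
noncomputable def emb {u z : V} (h : SingPair Q u z) :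
    eichGroup (Q.comp (side Q u z).subtype) →* eichGroup Q :=
  MonoidHom.mk' (fun k => (exists_lift h k.2).choose) fun a b => by
    obtain ⟨a1, a2, a3⟩ := (exists_lift h a.2).choose_spec
    obtain ⟨b1, b2, b3⟩ := (exists_lift h b.2).choose_spec
    obtain ⟨c1, c2, c3⟩ := (exists_lift h (a * b).2).choose_spec
    refine act_eq_of_pair h ?_ ?_ fun w => ?_
    · rw [act_mul, b1, a1, c1]
    · rw [act_mul, b2, a2, c2]
    · rw [act_mul, b3, a3, c3]
      rfl

section emb

variable {u z : V} (h : SingPair Q u z) (k : eichGroup (Q.comp (side Q u z).subtype))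

theorem emb_fst : act (emb h k) u = u := (exists_lift h k.2).choose_spec.1

theorem emb_snd : act (emb h k) z = z := (exists_lift h k.2).choose_spec.2.1

theorem emb_side (w : side Q u z) : act (emb h k) (w : V) = (act k w : side Q u z) :=
  (exists_lift h k.2).choose_spec.2.2 w

theorem emb_fix {x : V} (hx : ∀ w : side Q u z, pl x (w : V) = 0) (hQ : PolarNondeg (Q.comp (side Q u z).subtype)) :
    act (emb h k) x = x := by
  obtain ⟨w, hw, e⟩ := exists_side_decomp h x
  have hw0 : (⟨w, hw⟩ : side Q u z) = 0 := hQ _ fun y => by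
    have h0 := hx y
    obtain ⟨y1, y2⟩ := mem_side.1 y.2
    rw [e, QuadraticMap.polar_add_left, QuadraticMap.polar_add_left, QuadraticMap.polar_smul_left,
      QuadraticMap.polar_smul_left, y1, y2, smul_zero, smul_zero, zero_add, zero_add] at h0
    exact h0
  have : w = 0 := congrArg Subtype.val hw0
  rw [e, this, add_zero, act_add, act_smul, act_smul, emb_fst, emb_snd]

theorem emb_injective : Function.Injective (emb h) := fun a b e => act_ext fun w => Subtype.ext (by
  rw [← emb_side h a, ← emb_side h b, e])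

theorem emb_eG {s w : side Q u z} (hs : Q (s : V) = 0) (hsw : pl (s : V) (w : V) = 0) :
    emb h (eG (Q.comp (side Q u z).subtype) s w) = eG Q (s : V) (w : V) := by
  obtain ⟨hus, hzs⟩ := mem_side.1 s.2
  obtain ⟨huw, hzw⟩ := mem_side.1 w.2
  refine act_eq_of_pair h ?_ ?_ fun x => ?_
  · rw [emb_fst, eG_fix_of hs hsw hus huw]
  · rw [emb_snd, eG_fix_of hs hsw hzs hzw]
  · rw [emb_side, eG_apply hs hsw, eG_apply (Q := Q.comp (side Q u z).subtype) hs hsw]
    rfl

/-- The Eichler group of the complement commutes with what fixes it. -/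
theorem commute_emb_eG (w : side Q u z) :
    emb h k * eG Q u (w : V) * (emb h k)⁻¹ = eG Q u ((act k w : side Q u z) : V) := by
  rw [mul_inv_eq_iff_eq_mul, eG_conj' _ h.qu (mem_side.1 w.2).1, emb_fst, emb_side]

end emb

theorem commute_eG {u w w' : V} (hu : Q u = 0) (hw : pl u w = 0) (hw' : pl u w' = 0) :
    Commute (eG Q u w) (eG Q u w') := by
  rw [Commute, SemiconjBy, eG_mul hu hw hw', eG_mul hu hw' hw, add_comm]

theorem eG_side_eq {u z w : V} (h : SingPair Q u z) (hw : pl u w = 0) :
    ∃ w' : side Q u z, eG Q u w = eG Q u (w' : V) ∧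
      ∃ t : F, w = t • u + (w' : V) := by
  obtain ⟨y, hy, e⟩ := exists_side_decomp h w
  rw [QuadraticMap.polar_comm Q w u, hw, zero_smul, add_zero] at e
  refine ⟨⟨y, hy⟩, ?_, pl w z, e⟩
  rw [e, add_comm]
  exact eG_add_self h.qu (mem_side.1 hy).1 _

/-- An element exchanging two orthogonal pairs. -/
theorem exists_move2 {a a' b b' : V} (ha : SingPair Q a a') (hb : SingPair Q b b') (h1 : pl a b = 0)
    (h2 : pl a b' = 0) (h3 : pl a' b = 0) :
    ∃ g : eichGroup Q, act g a = b ∧ act g b = -a ∧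
      ∀ x, pl x a = 0 → pl x a' = 0 → pl x b = 0 → pl x b' = 0 → act g x = x := by
  have h1' : pl b a = 0 := (QuadraticMap.polar_comm Q b a).trans h1
  have h2' : pl b' a = 0 := (QuadraticMap.polar_comm Q b' a).trans h2
  have h3' : pl b a' = 0 := (QuadraticMap.polar_comm Q b a').trans h3
  refine ⟨(eG Q b a')⁻¹ * eG Q a b' * (eG Q b a')⁻¹, ?_, ?_, fun x xa xa' xb xb' => ?_⟩
  all_goals simp only [eG_inv hb.qu h3', act_mul]
  · simp [eG_apply hb.qu (show pl b (-a') = 0 by rw [QuadraticMap.polar_neg_right, h3', neg_zero]),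
      eG_apply ha.qu h2, ha.uz, ha.qu, ha.qz, hb.qu, hb.qz, hb.uz, hb.zu, h1, h1', h2, h2', h3, h3',
      quad_polar_self, act_add, act_smul, act_neg]
  · simp [eG_apply hb.qu (show pl b (-a') = 0 by rw [QuadraticMap.polar_neg_right, h3', neg_zero]),
      eG_apply ha.qu h2, ha.uz, ha.qu, ha.qz, hb.qu, hb.qz, hb.uz, hb.zu, h1, h1', h2, h2', h3, h3',
      quad_polar_self, act_add, act_smul, act_neg]
  · have hn : pl x (-a') = 0 := by rw [QuadraticMap.polar_neg_right, xa', neg_zero]
    have hb' : pl b (-a') = 0 := by rw [QuadraticMap.polar_neg_right, h3', neg_zero]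
    rw [eG_fix_of hb.qu hb' xb hn, eG_fix_of ha.qu h2 xa xb', eG_fix_of hb.qu hb' xb hn]

section Ext

variable {E : Type w} [Group E] {σ : E →* eichGroup Q} {p : ℕ} (hx : PExt σ p)
include hx

theorem cm_mem_ker {g h : eichGroup Q} (hgh : Commute g h) : cm hx.surj g h ∈ σ.ker := by
  rw [MonoidHom.mem_ker, σ_cm, commutatorElement_eq_one_iff_mul_comm]
  exact hgh.eq

theorem cm_mem_center {g h : eichGroup Q} (hgh : Commute g h) : cm hx.surj g h ∈ Subgroup.center E :=
  hx.cen (cm_mem_ker hx hgh)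

theorem cm_mul_of_commute {g g' h : eichGroup Q} (hg : Commute g h) (hg' : Commute g' h) :
    cm hx.surj (g * g') h = cm hx.surj g h * cm hx.surj g' h := by
  rw [cm_mul_left hx.surj hx.cen (by rw [commutatorElement_eq_one_iff_mul_comm.2 hg'.eq, cm_one_right hx.surj hx.cen]),
    cm_central hx.surj hx.cen hg']

theorem cm_mul_of_commute' {g h h' : eichGroup Q} (hg : Commute g h) (hg' : Commute g h') :
    cm hx.surj g (h * h') = cm hx.surj g h * cm hx.surj g h' :=
  cm_mul_right hx.surj hx.cen (by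
    rw [commutatorElement_eq_one_iff_mul_comm.2 hg'.eq, cm_one_right hx.surj hx.cen])

theorem eq_one_of_sq (hp : p.Prime) (hp2 : p ≠ 2) {z : E} (hz : z ∈ σ.ker) (h : z * z = 1) : z = 1 := by
  obtain ⟨k, hk⟩ := hx.pker ⟨z, hz⟩
  have hk' : z ^ p ^ k = 1 := congrArg Subtype.val hk
  obtain ⟨m, hm⟩ : Odd (p ^ k) := ((hp.eq_two_or_odd').resolve_left hp2).pow
  rw [hm, pow_succ, pow_mul, pow_two, h, one_pow, one_mul] at hk'
  exact hk'

/-- The pairing of lifts at a point. -/
noncomputable def bet {u z : V} (h : SingPair Q u z) :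
    side Q u z →+ side Q u z →+ Additive (Subgroup.center E) :=
  AddMonoidHom.mk' (fun w => AddMonoidHom.mk' (fun w' => Additive.ofMul
      (⟨cm hx.surj (eG Q u (w : V)) (eG Q u (w' : V)),
        cm_mem_center hx (commute_eG h.qu (mem_side.1 w.2).1 (mem_side.1 w'.2).1)⟩ : Subgroup.center E))
    fun a b => congrArg Additive.ofMul (Subtype.ext (by
      show cm hx.surj _ (eG Q u ((a + b : side Q u z) : V)) = cm hx.surj _ _ * cm hx.surj _ _
      rw [Submodule.coe_add, ← eG_mul h.qu (mem_side.1 a.2).1 (mem_side.1 b.2).1,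
        cm_mul_of_commute' hx (commute_eG h.qu (mem_side.1 w.2).1 (mem_side.1 a.2).1)
          (commute_eG h.qu (mem_side.1 w.2).1 (mem_side.1 b.2).1)])))
    fun a b => AddMonoidHom.ext fun c => congrArg Additive.ofMul (Subtype.ext (by
      show cm hx.surj (eG Q u ((a + b : side Q u z) : V)) _ = cm hx.surj _ _ * cm hx.surj _ _
      rw [Submodule.coe_add, ← eG_mul h.qu (mem_side.1 a.2).1 (mem_side.1 b.2).1,
        cm_mul_of_commute hx (commute_eG h.qu (mem_side.1 a.2).1 (mem_side.1 c.2).1)
          (commute_eG h.qu (mem_side.1 b.2).1 (mem_side.1 c.2).1)]))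

theorem coe_bet {u z : V} (h : SingPair Q u z) (w w' : side Q u z) :
    ((Additive.toMul (bet hx h w w') : Subgroup.center E) : E) = cm hx.surj (eG Q u (w : V)) (eG Q u (w' : V)) :=
  rfl

variable [Fintype F] [FiniteDimensional F V]

theorem bet_eq_psi (hQ : PolarNondeg Q) (hn : 6 ≤ Module.finrank F V) {u z : V} (h : SingPair Q u z) :
    ∃ ψ : F →+ Additive (Subgroup.center E),
      (∀ w w' : side Q u z, bet hx h w w' = ψ (pl (w : V) (w' : V))) ∧ ∀ c, ψ c + ψ c = 0 := by
  have hd := finrank_side h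
  refine exists_psi (polarNondeg_side hQ h) (by omega) (bet hx h) (fun g w w' => ?_) fun w => ?_
  · refine congrArg Additive.ofMul (Subtype.ext ?_)
    show cm hx.surj _ _ = cm hx.surj _ _
    rw [← commute_emb_eG h g w, ← commute_emb_eG h g w',
      cm_conj_eq hx.surj hx.cen (commute_eG h.qu (mem_side.1 w.2).1 (mem_side.1 w'.2).1)]
  · refine congrArg Additive.ofMul (Subtype.ext ?_)
    exact commutatorElement_self _

/-- Lifts at a point with orthogonal parameters commute. -/
theorem cm_perp (hQ : PolarNondeg Q) (hn : 6 ≤ Module.finrank F V) {u w w' : V} (hu : Q u = 0)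
    (hw : pl u w = 0) (hw' : pl u w' = 0) (hww : pl w w' = 0) :
    cm hx.surj (eG Q u w) (eG Q u w') = 1 := by
  rcases eq_or_ne u 0 with rfl | hu0
  · rw [eG_zero_left, cm_one_left hx.surj hx.cen]
  obtain ⟨z, h⟩ := exists_pair hQ hu hu0
  obtain ⟨a, ea, s, sa⟩ := eG_side_eq h hw
  obtain ⟨b, eb, t, tb⟩ := eG_side_eq h hw'
  have hab : pl (a : V) (b : V) = 0 := by
    rw [sa, tb] at hww
    simpa [quad_polar_self, hu, (mem_side.1 b.2).1,
      (QuadraticMap.polar_comm Q (a : V) u).trans (mem_side.1 a.2).1] using hww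
  obtain ⟨ψ, hψ, -⟩ := bet_eq_psi hx hQ hn h
  have := hψ a b
  rw [hab, map_zero] at this
  rw [ea, eb, ← coe_bet hx h, this]
  rfl

theorem bet_sq (hQ : PolarNondeg Q) (hn : 6 ≤ Module.finrank F V) {u z : V} (h : SingPair Q u z)
    (a b : side Q u z) :
    cm hx.surj (eG Q u (a : V)) (eG Q u (b : V)) * cm hx.surj (eG Q u (a : V)) (eG Q u (b : V)) = 1 := by
  obtain ⟨ψ, hψ, h2⟩ := bet_eq_psi hx hQ hn h
  have := h2 (pl (a : V) (b : V))
  rw [← hψ] at this
  exact congrArg (fun y : Additive (Subgroup.center E) => ((Additive.toMul y : Subgroup.center E) : E)) this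

omit hx in
/-- All lifts at a point commute. -/
def Comm {σ : E →* eichGroup Q} (hσ : Function.Surjective σ) : Prop :=
  ∀ u w w' : V, Q u = 0 → QuadraticMap.polar Q u w = 0 → QuadraticMap.polar Q u w' = 0 →
    cm hσ (eG Q u w) (eG Q u w') = 1

theorem comm_of_bet (hQ : PolarNondeg Q)
    (H : ∀ (u z : V) (h : SingPair Q u z) (a b : side Q u z), cm hx.surj (eG Q u (a : V)) (eG Q u (b : V)) = 1) :
    Comm hx.surj := by
  intro u w w' hu hw hw'
  rcases eq_or_ne u 0 with rfl | hu0
  · rw [eG_zero_left, cm_one_left hx.surj hx.cen]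
  obtain ⟨z, h⟩ := exists_pair hQ hu hu0
  obtain ⟨a, ea, -⟩ := eG_side_eq h hw
  obtain ⟨b, eb, -⟩ := eG_side_eq h hw'
  rw [ea, eb]
  exact H u z h a b

/-- Lifts at a point commute in odd characteristic. -/
theorem comm_odd (hQ : PolarNondeg Q) (hn : 6 ≤ Module.finrank F V) (hp : p.Prime) (hp2 : p ≠ 2) :
    Comm hx.surj :=
  comm_of_bet hx hQ fun _ _ h a b => eq_one_of_sq hx hp hp2
    (cm_mem_ker hx (commute_eG h.qu (mem_side.1 a.2).1 (mem_side.1 b.2).1)) (bet_sq hx hQ hn h a b)

omit hx in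
/-- A torus element of a pair. -/
theorem exists_scale (hQ : PolarNondeg Q) (hn : 5 ≤ Module.finrank F V) (hq : 4 ≤ Fintype.card F) {u z : V}
    (h : SingPair Q u z) :
    ∃ (t : eichGroup Q) (l : F), l ≠ 1 ∧ (∃ a, l = a * a) ∧ l ≠ 0 ∧ act t u = l • u ∧ act t z = l⁻¹ • z ∧
      ∀ w : side Q u z, act t (w : V) = w := by
  obtain ⟨e, he, he'⟩ : ∃ e : side Q u z, Q (e : V) ≠ 0 ∧ True := by
    by_contra hc
    push Not at hc
    have hd := finrank_side h
    have hz : ∀ e : side Q u z, Q (e : V) = 0 := fun e => by_contra fun he => (hc e he)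
    obtain ⟨x, hx0⟩ : ∃ x : side Q u z, x ≠ 0 := by
      by_contra hc'
      push Not at hc'
      have : Subsingleton (side Q u z) := ⟨fun a b => by rw [hc' a, hc' b]⟩
      have := Module.finrank_zero_of_subsingleton (R := F) (M := side Q u z)
      omega
    refine hx0 (polarNondeg_side hQ h x fun y => ?_)
    show pl (x : V) (y : V) = 0
    rw [QuadraticMap.polar, ← Submodule.coe_add, hz, hz, hz, sub_zero, sub_zero]
  obtain ⟨a, ha, ha1⟩ := exists_sq_ne_one hq
  obtain ⟨heu, hez⟩ := mem_side.1 e.2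
  obtain ⟨h1, h2, h3⟩ := tor_apply h heu hez he ha
  exact ⟨tor Q u z (e : V) a, a * a, ha1, ⟨a, rfl⟩, mul_ne_zero ha ha, h1, h2,
    fun w => h3 _ (mem_side.1 w.2).1 (mem_side.1 w.2).2⟩

omit hx in
theorem scale_conj {u z : V} (h : SingPair Q u z) {t : eichGroup Q} {l : F} (hu : act t u = l • u)
    (hs : ∀ w : side Q u z, act t (w : V) = w) (w : side Q u z) :
    t * eG Q u (w : V) * t⁻¹ = eG Q u ((l • w : side Q u z) : V) := by
  rw [mul_inv_eq_iff_eq_mul, eG_conj' _ h.qu (mem_side.1 w.2).1, hu, hs,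
    eG_smul_left h.qu (mem_side.1 w.2).1, Submodule.coe_smul]

/-- Lifts at a point commute over the larger fields of characteristic two. -/
theorem comm_even (hQ : PolarNondeg Q) (hn : 6 ≤ Module.finrank F V) (h2 : (2 : F) = 0)
    (hq : 4 ≤ Fintype.card F) : Comm hx.surj := by
  refine comm_of_bet hx hQ fun u z h a b => ?_
  obtain ⟨ψ, hψ, -⟩ := bet_eq_psi hx hQ hn h
  obtain ⟨t, l, hl1, -, -, htu, -, hts⟩ := exists_scale hQ (by omega) hq h
  have key : ∀ x y : side Q u z, bet hx h (l • x) (l • y) = bet hx h x y := fun x y => by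
    refine congrArg Additive.ofMul (Subtype.ext ?_)
    show cm hx.surj _ _ = cm hx.surj _ _
    rw [← scale_conj h htu hts x, ← scale_conj h htu hts y,
      cm_conj_eq hx.surj hx.cen (commute_eG h.qu (mem_side.1 x.2).1 (mem_side.1 y.2).1)]
  have hne : l * l - 1 ≠ 0 := by
    rw [show l * l - 1 = (l - 1) * (l - 1) by linear_combination (l - 1) * h2]
    exact mul_ne_zero (sub_ne_zero.2 hl1) (sub_ne_zero.2 hl1)
  have := key ((l * l - 1)⁻¹ • a) b
  rw [hψ, hψ, ← sub_eq_zero, ← map_sub] at this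
  simp only [Submodule.coe_smul, QuadraticMap.polar_smul_left, QuadraticMap.polar_smul_right, smul_eq_mul] at this
  rw [show l * (l * ((l * l - 1)⁻¹ * pl (a : V) (b : V))) - (l * l - 1)⁻¹ * pl (a : V) (b : V) =
    ((l * l - 1) * (l * l - 1)⁻¹) * pl (a : V) (b : V) by ring, mul_inv_cancel₀ hne, one_mul, ← hψ] at this
  rw [← coe_bet hx h, this]
  rfl

end Ext

end CfsgLib.Known.OrthLift
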