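import Cfsg.Agent.Lib.Known.OrthLift.CommTwo

/-!
# Equivariant sections over the radical at a singular point
-/

set_option autoImplicit false
set_option linter.unusedSectionVars false
set_option maxHeartbeats 1000000

namespace CfsgLib.Known.OrthLift

open CfsgLib.Classical CfsgLib.OrthMinIndex CfsgLib.Known.CentralComm
open scoped commutatorElement IsMulCommutative

universe u v w

variable {F : Type u} [Field F] {V : Type v} [AddCommGroup V] [Module F V] {Q : QuadraticForm F V}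
  {E : Type w} [Group E]

local notation "pl" => QuadraticMap.polar Q

/-- A section over the radical at `u`, equivariant under the stabiliser of the pair. -/
def Sect (σ : E →* eichGroup Q) (u z : V) : Prop :=
  ∃ s : V → E, (∀ w ∈ side Q u z, σ (s w) = eG Q u w) ∧
    (∀ w ∈ side Q u z, ∀ w' ∈ side Q u z, s (w + w') = s w * s w') ∧
    ∀ g : E, act (σ g) u = u → act (σ g) z = z → ∀ w ∈ side Q u z, g * s w * g⁻¹ = s (act (σ g) w)

theorem act_mem_side {u z w : V} (g : eichGroup Q) (gu : act g u = u) (gz : act g z = z) (hw : w ∈ side Q u z) :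
    act g w ∈ side Q u z := by
  obtain ⟨a, b⟩ := mem_side.1 hw
  rw [mem_side]
  rw [← act_polar g] at a b
  rw [gu] at a
  rw [gz] at b
  exact ⟨a, b⟩

variable [Fintype F] [FiniteDimensional F V] {σ : E →* eichGroup Q} {p : ℕ} (hx : PExt σ p)

include hx

/-- Over fields with at least four elements a torus element splits the radical. -/
theorem sect_of_scale (hQ : PolarNondeg Q) (hn : 5 ≤ Module.finrank F V) (hq : 4 ≤ Fintype.card F)
    (hC : Comm hx.surj) {u z : V} (h : SingPair Q u z) : Sect σ u z := by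
  obtain ⟨t, l, hl1, -, -, htu, htz, hts⟩ := exists_scale hQ hn hq h
  refine ⟨fun w => cm hx.surj t (eG Q u ((l - 1)⁻¹ • w)), fun w hw => ?_, fun w hw w' hw' => ?_,
    fun g gu gz w hw => ?_⟩
  · have hm := (side Q u z).smul_mem (l - 1)⁻¹ hw
    have hne := sub_ne_zero.2 hl1
    simp only
    rw [σ_cm, commutatorElement_def, scale_conj h htu hts ⟨_, hm⟩,
      eG_inv h.qu (mem_side.1 hm).1, eG_mul h.qu (mem_side.1 (Subtype.property _)).1
        (by rw [QuadraticMap.polar_neg_right, (mem_side.1 hm).1, neg_zero]), Submodule.coe_smul]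
    congr 1
    calc l • (l - 1)⁻¹ • w + -((l - 1)⁻¹ • w) = ((l - 1) * (l - 1)⁻¹) • w := by module
      _ = w := by rw [mul_inv_cancel₀ hne, one_smul]
  · simp only
    have hm := (side Q u z).smul_mem (l - 1)⁻¹ hw
    have hm' := (side Q u z).smul_mem (l - 1)⁻¹ hw'
    rw [smul_add, ← eG_mul h.qu (mem_side.1 hm).1 (mem_side.1 hm').1,
      cm_mul_right hx.surj hx.cen]
    rw [commutatorElement_def, scale_conj h htu hts ⟨_, hm'⟩, eG_inv h.qu (mem_side.1 hm').1,
      eG_mul h.qu (mem_side.1 (Subtype.property _)).1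
        (by rw [QuadraticMap.polar_neg_right, (mem_side.1 hm').1, neg_zero])]
    exact hC u _ _ h.qu (mem_side.1 hm).1 (by
      rw [QuadraticMap.polar_add_right, (mem_side.1 (Subtype.property _)).1, QuadraticMap.polar_neg_right,
        (mem_side.1 hm').1, neg_zero, add_zero])
  · simp only
    have hm := (side Q u z).smul_mem (l - 1)⁻¹ hw
    have hcomm : σ g * t * (σ g)⁻¹ = t := by
      rw [mul_inv_eq_iff_eq_mul]
      refine act_eq_of_pair h ?_ ?_ fun x => ?_
      · rw [act_mul, act_mul, htu, gu, act_smul, gu, htu]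
      · rw [act_mul, act_mul, htz, gz, act_smul, gz, htz]
      · rw [act_mul, act_mul, hts, hts ⟨_, act_mem_side _ gu gz x.2⟩]
    rw [conj_cm' hx.surj hx.cen rfl, hcomm]
    congr 1
    rw [mul_inv_eq_iff_eq_mul, eG_conj' _ h.qu (mem_side.1 hm).1, gu, act_smul]

/-- Over the fields with two and three elements the section comes from the lifts of root elements. -/
theorem sect_small (hQ : PolarNondeg Q) (hn : 8 ≤ Module.finrank F V) (hp : p.Prime) [CharP F p]
    (hq : Fintype.card F = 2 ∨ Fintype.card F = 3) (hN : NoFour Q) (hC : Comm hx.surj) {u z : V}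
    (h : SingPair Q u z) : Sect σ u z := by
  classical
  set Q₁ := sideQ Q u z
  have hQ₁ : PolarNondeg Q₁ := polarNondeg_side hQ h
  have hd := finrank_side h
  have hs : ∀ c : F, c = 0 ∨ c = 1 ∨ c = -1 := by
    intro c
    rcases eq_or_ne c 0 with hc | hc
    · exact Or.inl hc
    · have := FiniteField.pow_card_sub_one_eq_one c hc
      rcases hq with h2 | h3
      · rw [h2, pow_one] at this; exact Or.inr (Or.inl this)
      · rw [h3, pow_two] at this; exact Or.inr (mul_self_eq_one_iff.1 this)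
  have hone : ∀ c : F, c ≠ 0 → c = 1 ∨ c = -1 := fun c hc => (hs c).resolve_left hc
  obtain ⟨x₀, hx₀0, hx₀⟩ := exists_singular Q₁ hQ₁ (by omega)
  obtain ⟨y₀, hxy⟩ := exists_pair hQ₁ hx₀ hx₀0
  have hperp : ∀ w : side Q u z, pl u (w : V) = 0 := fun w => (mem_side.1 w.2).1
  -- transported lifts
  let K : side Q u z → E := fun x =>
    if hk : ∃ k : eichGroup Q₁, act k x₀ = x then
      pre hx.surj (emb h hk.choose) * pre hx.surj (eG Q u (x₀ : V)) * (pre hx.surj (emb h hk.choose))⁻¹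
    else 1
  have hex : ∀ x, Q₁ x = 0 → x ≠ 0 → ∃ k : eichGroup Q₁, act k x₀ = x := fun x hx1 hx2 => by
    obtain ⟨g, hg, hgx⟩ := exists_move_eichGroup Q₁ hQ₁ (by omega) hx₀ hx1 hx₀0 hx2
    exact ⟨⟨g, hg⟩, hgx⟩
  have hKσ : ∀ x, Q₁ x = 0 → x ≠ 0 → σ (K x) = eG Q u (x : V) := fun x hx1 hx2 => by
    have hk := hex x hx1 hx2
    simp only [K, dif_pos hk, map_mul, map_inv, σ_pre]
    rw [commute_emb_eG, hk.choose_spec]
  have hKeq : ∀ (g : E) (gu : act (σ g) u = u) (gz : act (σ g) z = z) (x : side Q u z), Q₁ x = 0 → x ≠ 0 →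
      g * K x * g⁻¹ = K ⟨_, act_mem_side (σ g) gu gz x.2⟩ := by
    intro g gu gz x hx1 hx2
    have hy2 : (⟨_, act_mem_side (σ g) gu gz x.2⟩ : side Q u z) ≠ 0 := fun e =>
      act_ne_zero (σ g) (fun e' => hx2 (Subtype.ext e')) (congrArg Subtype.val e)
    have hk := hex x hx1 hx2
    have hk' := hex ⟨_, act_mem_side (σ g) gu gz x.2⟩ (show Q (act (σ g) (x : V)) = 0 by
      rw [act_quad]; exact hx1) hy2
    simp only [K, dif_pos hk, dif_pos hk']
    have hs1 := hk.choose_spec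
    have hs2 := hk'.choose_spec
    set a := pre hx.surj (emb h hk.choose) with ha
    set b := pre hx.surj (emb h hk'.choose) with hb
    set m := (emb h hk'.choose)⁻¹ * σ g * emb h hk.choose with hm
    have hcm : cm hx.surj m (eG Q u (x₀ : V)) = 1 := by
      refine cm_stab hx h hxy hQ hn hp hq hN ?_ ?_ ?_
      · rw [hm, act_mul, act_mul, emb_fst, gu]
        have e := act_inv_act (emb h hk'.choose) u
        rwa [emb_fst] at e
      · rw [hm, act_mul, act_mul, emb_snd, gz]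
        have e := act_inv_act (emb h hk'.choose) z
        rwa [emb_snd] at e
      · rw [hm, act_mul, act_mul, emb_side, hs1]
        have e := emb_side h hk'.choose x₀
        rw [hs2] at e
        exact (congrArg (act (emb h hk'.choose)⁻¹) e.symm).trans (act_inv_act _ _)
    have hc := commute_of_cm hx.surj hx.cen (a := b⁻¹ * g * a)
      (by rw [map_mul, map_mul, map_inv, ha, hb, σ_pre, σ_pre]) (σ_pre hx.surj _) hcm
    calc g * (a * pre hx.surj (eG Q u (x₀ : V)) * a⁻¹) * g⁻¹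
        = b * ((b⁻¹ * g * a) * pre hx.surj (eG Q u (x₀ : V)) * (b⁻¹ * g * a)⁻¹) * b⁻¹ := by group
      _ = b * pre hx.surj (eG Q u (x₀ : V)) * b⁻¹ := by rw [hc.eq, mul_inv_cancel_right]
  -- the abelian preimage of the radical
  let rad : Multiplicative (side Q u z) →* eichGroup Q :=
    MonoidHom.mk' (fun w => eG Q u ((Multiplicative.toAdd w : side Q u z) : V)) fun a b => by
      rw [eG_mul h.qu (hperp _) (hperp _)]
      rfl
  let R : Subgroup E := rad.range.comap σ
  have hRmem : ∀ (g : E) (w : side Q u z), σ g = eG Q u (w : V) → g ∈ R := fun g w hg =>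
    ⟨Multiplicative.ofAdd w, hg.symm⟩
  have hRc : ∀ a b : R, a * b = b * a := by
    rintro ⟨a, wa, ha⟩ ⟨b, wb, hb⟩
    exact Subtype.ext (commute_of_cm hx.surj hx.cen ha.symm hb.symm (hC u _ _ h.qu (hperp _) (hperp _)))
  letI : CommGroup R := { (inferInstance : Group R) with mul_comm := hRc }
  have hKR : ∀ x, Q₁ x = 0 → x ≠ 0 → K x ∈ R := fun x hx1 hx2 => hRmem _ x (hKσ x hx1 hx2)
  let κ₀ : side Q u z → Additive R := fun x =>
    if hh : Q₁ x = 0 ∧ x ≠ 0 then Additive.ofMul ⟨K x, hKR x hh.1 hh.2⟩ else 0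
  have hκ₀ : ∀ x (h1 : Q₁ x = 0) (h2 : x ≠ 0), ((Additive.toMul (κ₀ x) : R) : E) = K x := fun x h1 h2 => by
    simp only [κ₀, dif_pos (⟨h1, h2⟩ : Q₁ x = 0 ∧ x ≠ 0)]
    rfl
  -- the defect on orthogonal pairs
  have indep : ∀ {x : side Q u z}, Q₁ x = 0 → x ≠ 0 →
      ∃ a, Q₁ a = 0 ∧ a ≠ 0 ∧ QuadraticMap.polar Q₁ x a = 0 ∧ ∀ c : F, a ≠ c • x := by
    intro x hx1 hx2
    obtain ⟨t, ht⟩ := exists_pair hQ₁ hx1 hx2
    have hd' := finrank_side ht
    obtain ⟨a, ha0, ha⟩ := exists_singular _ (polarNondeg_side hQ₁ ht) (by omega)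
    obtain ⟨a1, a2⟩ := mem_side.1 a.2
    refine ⟨a, ha, fun e => ha0 (Subtype.ext e), a1, fun c e => ?_⟩
    rw [e, QuadraticMap.polar_smul_right, ht.zu, smul_eq_mul, mul_one] at a2
    exact ha0 (Subtype.ext (by rw [e, a2, zero_smul]; rfl))
  have sum_ne : ∀ {x y : side Q u z}, (∀ c : F, y ≠ c • x) → x + y ≠ 0 := fun {x y} hi e =>
    hi (-1) (by rw [neg_one_smul]; exact eq_neg_of_add_eq_zero_right e)
  have sum_sing : ∀ {x y : side Q u z}, Q₁ x = 0 → Q₁ y = 0 → QuadraticMap.polar Q₁ x y = 0 →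
      Q₁ (x + y) = 0 := fun {x y} h1 h2 h3 => by rw [quad_add, h1, h2, h3, add_zero, add_zero]
  let dft : side Q u z → side Q u z → Additive R := fun x y => κ₀ (x + y) - κ₀ x - κ₀ y
  have hdσ : ∀ x y, Q₁ x = 0 → Q₁ y = 0 → QuadraticMap.polar Q₁ x y = 0 → x ≠ 0 → y ≠ 0 →
      (∀ c : F, y ≠ c • x) → ((Additive.toMul (dft x y) : R) : E) = K (x + y) * (K x)⁻¹ * (K y)⁻¹ ∧
      σ (K (x + y) * (K x)⁻¹ * (K y)⁻¹) = 1 := by
    intro x y h1 h2 h3 hx0 hy0 hi
    constructor
    · show ((Additive.toMul (κ₀ (x + y) - κ₀ x - κ₀ y) : R) : E) = _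
      rw [toMul_sub, toMul_sub, div_eq_mul_inv, div_eq_mul_inv, Subgroup.coe_mul, Subgroup.coe_mul,
        Subgroup.coe_inv, Subgroup.coe_inv, hκ₀ _ (sum_sing h1 h2 h3) (sum_ne hi), hκ₀ x h1 hx0,
        hκ₀ y h2 hy0]
    · rw [map_mul, map_mul, map_inv, map_inv, hKσ _ (sum_sing h1 h2 h3) (sum_ne hi), hKσ x h1 hx0,
        hKσ y h2 hy0, Submodule.coe_add, ← eG_mul h.qu (hperp x) (hperp y),
        (commute_eG h.qu (hperp x) (hperp y)).eq]
      group
  obtain ⟨a₀, ha₀, ha₀0, ha₀p, ha₀i⟩ := indep hx₀ hx₀0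
  obtain ⟨D, hD⟩ : ∃ D, D = dft x₀ a₀ := ⟨_, rfl⟩
  have hconst : ∀ x y, Q₁ x = 0 → Q₁ y = 0 → QuadraticMap.polar Q₁ x y = 0 → x ≠ 0 → y ≠ 0 →
      (∀ c : F, y ≠ c • x) → dft x y = D := by
    intro x y h1 h2 h3 hx0 hy0 hi
    obtain ⟨k, kx, ky⟩ := exists_move_perp hQ₁ (by omega) hx₀ h1 hx₀0 hx0 ha₀p h3 ha₀i hi
      (by rw [ha₀, h2])
    obtain ⟨g, hg⟩ := hx.surj (emb h k)
    have gu : act (σ g) u = u := by rw [hg, emb_fst]
    have gz : act (σ g) z = z := by rw [hg, emb_snd]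
    have move : ∀ w (h4 : Q₁ w = 0) (h5 : w ≠ 0), g * K w * g⁻¹ = K (act k w) := fun w h4 h5 => by
      rw [hKeq g gu gz w h4 h5]
      congr 1
      exact Subtype.ext (by show act (σ g) (w : V) = _; rw [hg, emb_side])
    obtain ⟨e₀, z₀⟩ := hdσ x₀ a₀ hx₀ ha₀ ha₀p hx₀0 ha₀0 ha₀i
    obtain ⟨e₁, -⟩ := hdσ x y h1 h2 h3 hx0 hy0 hi
    refine Additive.toMul.injective (Subtype.ext ?_)
    rw [hD, e₀, e₁]
    calc K (x + y) * (K x)⁻¹ * (K y)⁻¹
        = g * K (x₀ + a₀) * g⁻¹ * (g * K x₀ * g⁻¹)⁻¹ * (g * K a₀ * g⁻¹)⁻¹ := by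
          rw [move _ (sum_sing hx₀ ha₀ ha₀p) (sum_ne ha₀i), move _ hx₀ hx₀0, move _ ha₀ ha₀0, act_add, kx, ky]
      _ = g * (K (x₀ + a₀) * (K x₀)⁻¹ * (K a₀)⁻¹) * g⁻¹ := by group
      _ = _ := by rw [Subgroup.mem_center_iff.1 (hx.cen z₀) g, mul_inv_cancel_right]
  let κ : side Q u z → Additive R := fun x => if x = 0 then 0 else κ₀ x + D
  have hκ : ∀ x, x ≠ 0 → κ x = κ₀ x + D := fun x hx2 => if_neg hx2
  have hκ0 : κ 0 = 0 := if_pos rfl
  have hind : ∀ x y, Q₁ x = 0 → Q₁ y = 0 → QuadraticMap.polar Q₁ x y = 0 → x ≠ 0 → y ≠ 0 →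
      (∀ c : F, y ≠ c • x) → κ (x + y) = κ x + κ y := fun x y h1 h2 h3 hx0 hy0 hi => by
    have e := hconst x y h1 h2 h3 hx0 hy0 hi
    rw [hκ _ (sum_ne hi), hκ x hx0, hκ y hy0]
    change κ₀ (x + y) - κ₀ x - κ₀ y = D at e
    rw [sub_sub, sub_eq_iff_eq_add] at e
    rw [e]
    abel
  have hneg : ∀ x, Q₁ x = 0 → x ≠ 0 → κ (-x) = -κ x := by
    intro x h1 hx0
    obtain ⟨a, ha, ha0, hxa, hai⟩ := indep h1 hx0
    have e1 := hind x a h1 ha hxa hx0 ha0 hai
    have e2 := hind (x + a) (-x) (sum_sing h1 ha hxa) (by rw [QuadraticMap.map_neg, h1])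
      (by rw [QuadraticMap.polar_neg_right, QuadraticMap.polar_add_left, quad_polar_self, h1,
        QuadraticMap.polar_comm Q₁ a x, hxa]; simp)
      (sum_ne hai) (neg_ne_zero.2 hx0) (fun c hc => by
        rcases eq_or_ne c 0 with rfl | hc0
        · rw [zero_smul] at hc; exact neg_ne_zero.2 hx0 hc
        · refine hai (c⁻¹ * (-1 - c)) ?_
          calc a = c⁻¹ • (c • (x + a) - c • x) := by
                rw [← smul_sub, add_sub_cancel_left, smul_smul, inv_mul_cancel₀ hc0, one_smul]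
            _ = (c⁻¹ * (-1 - c)) • x := by rw [← hc]; module)
    rw [e1, show x + a + -x = a by abel] at e2
    refine eq_neg_of_add_eq_zero_right (add_right_cancel (b := κ a) ?_)
    rw [zero_add]
    calc κ x + κ (-x) + κ a = κ x + κ a + κ (-x) := by abel
      _ = κ a := e2.symm
  have hdouble : ∀ x, Q₁ x = 0 → x ≠ 0 → κ (x + x) = κ x + κ x := by
    intro x h1 hx0
    by_cases h2 : x + x = 0
    · rw [h2, hκ0]
      have e := hneg x h1 hx0
      rw [neg_eq_of_add_eq_zero_right h2] at e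
      nth_rewrite 2 [e]
      rw [add_neg_cancel]
    obtain ⟨a, ha, ha0, hxa, hai⟩ := indep h1 hx0
    have hna : ∀ c : F, -a ≠ c • x := fun c hc => hai (-c) (by rw [neg_smul, ← hc, neg_neg])
    have hxna : QuadraticMap.polar Q₁ x (-a) = 0 := by rw [QuadraticMap.polar_neg_right, hxa, neg_zero]
    have hna1 : Q₁ (-a) = 0 := by rw [QuadraticMap.map_neg, ha]
    have e := hind (x + a) (x + -a) (sum_sing h1 ha hxa) (sum_sing h1 hna1 hxna)
      (by simp [quad_polar_self, h1, ha, hxa, QuadraticMap.polar_comm Q₁ a x]) (sum_ne hai) (sum_ne hna)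
      (fun c hc => by
        rcases eq_or_ne (1 + c) 0 with hc1 | hc1
        · refine h2 ?_
          have e' : x + -a = -(x + a) := by
            rw [hc, show c = -1 from (eq_neg_of_add_eq_zero_right hc1), neg_one_smul]
          calc x + x = x + -a + (x + a) := by abel
            _ = 0 := by rw [e', neg_add_cancel]
        · refine hai ((1 + c)⁻¹ * (1 - c)) ?_
          calc a = (1 + c)⁻¹ • ((1 + c) • a) := by rw [smul_smul, inv_mul_cancel₀ hc1, one_smul]
            _ = (1 + c)⁻¹ • ((1 - c) • x + (c • (x + a) - (x + -a))) := by congr 1; module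
            _ = ((1 + c)⁻¹ * (1 - c)) • x := by rw [← hc, sub_self, add_zero, smul_smul])
    rw [show x + a + (x + -a) = x + x by abel, hind x a h1 ha hxa hx0 ha0 hai,
      hind x (-a) h1 hna1 hxna hx0 (neg_ne_zero.2 ha0) hna, hneg a ha ha0] at e
    rw [e]
    abel
  have hOA : OA Q₁ κ := by
    intro x y h1 h2 h3
    rcases eq_or_ne x 0 with rfl | hx0
    · rw [zero_add, hκ0, zero_add]
    rcases eq_or_ne y 0 with rfl | hy0
    · rw [add_zero, hκ0, add_zero]
    by_cases hi : ∀ c : F, y ≠ c • x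
    · exact hind x y h1 h2 h3 hx0 hy0 hi
    push Not at hi
    obtain ⟨c, rfl⟩ := hi
    rcases hone c (left_ne_zero_of_smul hy0) with rfl | rfl
    · rw [one_smul]; exact hdouble x h1 hx0
    · rw [neg_one_smul, add_neg_cancel, hκ0, hneg x h1 hx0, add_neg_cancel]
  obtain ⟨L, hL⟩ := exists_linear hs hQ₁ (by omega) hOA
  have hsum := exists_sum_singular hQ₁ (show 3 ≤ Module.finrank F (side Q u z) by omega)
  -- projection
  have hDσ : σ ((Additive.toMul D : R) : E) = 1 := by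
    obtain ⟨e₀, z₀⟩ := hdσ x₀ a₀ hx₀ ha₀ ha₀p hx₀0 ha₀0 ha₀i
    rw [hD, e₀, z₀]
  let val : side Q u z → E := fun w => ((Additive.toMul (L w) : R) : E)
  have hval : ∀ a b, val (a + b) = val a * val b := fun a b => by
    simp only [val, map_add, toMul_add, Subgroup.coe_mul]
  have hval0 : val 0 = 1 := by simp [val]
  have hvalK : ∀ x, Q₁ x = 0 → x ≠ 0 → val x = K x * ((Additive.toMul D : R) : E) := fun x h1 hx0 => by
    simp only [val, hL x h1, hκ x hx0, toMul_add, Subgroup.coe_mul, hκ₀ x h1 hx0]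
  have hσval : ∀ w : side Q u z, σ (val w) = eG Q u (w : V) := by
    intro w
    have hsing : ∀ x, Q₁ x = 0 → σ (val x) = eG Q u (x : V) := by
      intro x h1
      rcases eq_or_ne x 0 with rfl | hx0
      · rw [hval0, map_one, Submodule.coe_zero, eG_zero h.qu]
      · rw [hvalK x h1 hx0, map_mul, hDσ, mul_one, hKσ x h1 hx0]
    obtain ⟨a, b, ha, hb, rfl⟩ := hsum w
    rw [hval, map_mul, hsing a ha, hsing b hb, eG_mul h.qu (hperp a) (hperp b), Submodule.coe_add]
  refine ⟨fun w => if hw : w ∈ side Q u z then val ⟨w, hw⟩ else 1, fun w hw => ?_, fun w hw w' hw' => ?_,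
    fun g gu gz w hw => ?_⟩
  · simp only [dif_pos hw]
    exact hσval ⟨w, hw⟩
  · simp only [dif_pos hw, dif_pos hw', dif_pos ((side Q u z).add_mem hw hw')]
    exact hval ⟨w, hw⟩ ⟨w', hw'⟩
  · simp only [dif_pos hw, dif_pos (act_mem_side (σ g) gu gz hw)]
    obtain ⟨gg, hgg⟩ : ∃ gg : side Q u z → side Q u z, ∀ x, gg x = ⟨_, act_mem_side (σ g) gu gz x.2⟩ :=
      ⟨_, fun _ => rfl⟩
    have gg_add : ∀ a b, gg (a + b) = gg a + gg b := fun a b => by
      rw [hgg, hgg, hgg]
      exact Subtype.ext (act_add _ _ _)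
    have hsing : ∀ x, Q₁ x = 0 → g * val x * g⁻¹ = val (gg x) := by
      intro x h1
      rcases eq_or_ne x 0 with rfl | hx0
      · have e0 : gg 0 = 0 := by rw [hgg]; exact Subtype.ext (act_zero _)
        rw [e0, hval0, mul_one, mul_inv_cancel]
      · have hy0 : gg x ≠ 0 := fun e => act_ne_zero (σ g) (fun e' => hx0 (Subtype.ext e'))
          (by rw [hgg] at e; exact congrArg Subtype.val e)
        rw [hvalK x h1 hx0, hvalK (gg x) (by rw [hgg]; exact (act_quad _ _).trans h1) hy0, hgg,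
          ← hKeq g gu gz x h1 hx0]
        have hc := Subgroup.mem_center_iff.1 (hx.cen (MonoidHom.mem_ker.2 hDσ)) g⁻¹
        simp only [mul_assoc]
        rw [← hc]
    obtain ⟨a, b, ha, hb, hab⟩ := hsum ⟨w, hw⟩
    have e := gg_add a b
    rw [← hab, hgg] at e
    rw [e, hval, ← hsing a ha, ← hsing b hb, hab, hval]
    group

/-- Equivariant sections exist at every pair. -/
theorem exists_sect (hQ : PolarNondeg Q) (hn : 6 ≤ Module.finrank F V) (hp : p.Prime) [CharP F p]
    (hsmall : Fintype.card F ≤ 3 → 8 ≤ Module.finrank F V) (hN : NoFour Q) {u z : V} (h : SingPair Q u z) :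
    Sect σ u z := by
  have hq1 : 1 < Fintype.card F := Fintype.one_lt_card
  haveI := Fact.mk hp
  by_cases hq : 4 ≤ Fintype.card F
  · refine sect_of_scale hx hQ (by omega) hq ?_ h
    by_cases hp2 : p = 2
    · subst hp2
      exact comm_even hx hQ hn (by exact_mod_cast CharP.cast_eq_zero F 2) hq
    · exact comm_odd hx hQ hn hp hp2
  · have hq' : Fintype.card F = 2 ∨ Fintype.card F = 3 := by omega
    refine sect_small hx hQ (hsmall (by omega)) hp hq' hN ?_ h
    rcases hq' with h2 | h3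
    · exact comm_two hx hQ (hsmall (by omega)) hp h2 hN
    · refine comm_odd hx hQ hn hp fun e => ?_
      subst e
      haveI : Fact (Nat.Prime 3) := ⟨Nat.prime_three⟩
      have := CharP.eq F (charP_of_card_eq_prime h3) ‹CharP F 2›
      omega

end CfsgLib.Known.OrthLift
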