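import Cfsg.Agent.Lib.Known.OrthLift.Section
import Mathlib.GroupTheory.Transfer

/-!
# The `p`-part of the multiplier of an Eichler group

Sections over the radicals along a chain of pairs give a section over a Sylow `p`-subgroup.
-/

set_option autoImplicit false
set_option linter.unusedSectionVars false

namespace CfsgLib.Known.OrthLift

open CfsgLib.Classical CfsgLib.OrthMinIndex

universe u v w

variable {F : Type u} [Field F]

variable {V : Type v} [AddCommGroup V] [Module F V] {Q : QuadraticForm F V}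

local notation "pl" => QuadraticMap.polar Q

variable (Q) in
/-- Mutually orthogonal hyperbolic pairs. -/
structure Frame (m : ℕ) where
  e : Fin m → V
  f : Fin m → V
  pair : ∀ i, SingPair Q (e i) (f i)
  ee : ∀ i j, i ≠ j → QuadraticMap.polar Q (e i) (e j) = 0
  ef : ∀ i j, i ≠ j → QuadraticMap.polar Q (e i) (f j) = 0
  ff : ∀ i j, i ≠ j → QuadraticMap.polar Q (f i) (f j) = 0

/-- The remaining pairs in the complement of the first one. -/
def Frame.tail {m : ℕ} (P : Frame Q (m + 1)) : Frame (sideQ Q (P.e 0) (P.f 0)) m where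
  e i := ⟨P.e i.succ, mem_side.2 ⟨P.ee 0 _ (Fin.succ_ne_zero i).symm, by
    rw [QuadraticMap.polar_comm]; exact P.ef _ 0 (Fin.succ_ne_zero i)⟩⟩
  f i := ⟨P.f i.succ, mem_side.2 ⟨P.ef 0 _ (Fin.succ_ne_zero i).symm, P.ff 0 _ (Fin.succ_ne_zero i).symm⟩⟩
  pair i := ⟨(P.pair i.succ).qu, (P.pair i.succ).qz, (P.pair i.succ).uz⟩
  ee i j hij := P.ee i.succ j.succ fun e => hij (Fin.succ_injective _ e)
  ef i j hij := P.ef i.succ j.succ fun e => hij (Fin.succ_injective _ e)
  ff i j hij := P.ff i.succ j.succ fun e => hij (Fin.succ_injective _ e)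

theorem Frame.two_mul_le [Fintype F] : ∀ {m : ℕ} {V : Type v} [AddCommGroup V] [Module F V] [FiniteDimensional F V]
    {Q : QuadraticForm F V}, Frame Q m → 2 * m ≤ Module.finrank F V := by
  intro m
  induction m with
  | zero => intros; omega
  | succ m ih =>
    intro V _ _ _ Q P
    have := ih P.tail
    have := finrank_side (P.pair 0)
    omega

/-- Equivariant sections give a section over a product of the radicals along a chain of pairs. -/
theorem exists_complement [Fintype F] (m : ℕ) :
    ∀ (V : Type v) [AddCommGroup V] [Module F V] [FiniteDimensional F V] (Q : QuadraticForm F V)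
      (E : Type w) [Group E] (σ : E →* eichGroup Q), (∀ u z : V, SingPair Q u z → Sect σ u z) → Frame Q m →
      ∃ K : Subgroup E, (∀ k ∈ K, σ k = 1 → k = 1) ∧
        Nat.card K = Fintype.card F ^ (m * (Module.finrank F V - m - 1)) := by
  induction m with
  | zero =>
    intro V _ _ _ Q E _ σ _ _
    exact ⟨⊥, fun k hk _ => Subgroup.mem_bot.1 hk, by simp⟩
  | succ m ih =>
    intro V _ _ _ Q E _ σ hS P
    set u := P.e 0
    set z := P.f 0
    have h : SingPair Q u z := P.pair 0
    -- restriction to the complement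
    let R : Subgroup E := (emb h).range.comap σ
    let σ' : R →* eichGroup (sideQ Q u z) :=
      (MonoidHom.ofInjective (emb_injective h)).symm.toMonoidHom.comp
        ((σ.comp R.subtype).codRestrict (emb h).range fun x => x.2)
    have hσ' : ∀ x : R, emb h (σ' x) = σ x := fun x =>
      congrArg Subtype.val ((MonoidHom.ofInjective (emb_injective h)).apply_symm_apply ⟨σ x, x.2⟩)
    have hS' : ∀ a b : side Q u z, SingPair (sideQ Q u z) a b → Sect σ' a b := by
      intro a b hab
      obtain ⟨s, s1, s2, s3⟩ := hS (a : V) (b : V) ⟨hab.qu, hab.qz, hab.uz⟩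
      have hmem : ∀ w : side Q u z, w ∈ side (sideQ Q u z) a b → (w : V) ∈ side Q (a : V) (b : V) := fun w hw =>
        hw
      have hR : ∀ w : side Q u z, (hw : w ∈ side (sideQ Q u z) a b) → s (w : V) ∈ R := fun w hw => by
        refine ⟨eG (sideQ Q u z) a w, ?_⟩
        rw [s1 _ (hmem w hw), emb_eG h (show Q (a : V) = 0 from hab.qu) (mem_side.1 hw).1]
      classical
      refine ⟨fun w => if hw : w ∈ side (sideQ Q u z) a b then ⟨s w, hR w hw⟩ else 1, fun w hw => ?_,
        fun w hw w' hw' => ?_, fun g ga gb w hw => ?_⟩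
      · simp only [dif_pos hw]
        refine emb_injective h ?_
        rw [hσ', emb_eG h (show Q (a : V) = 0 from hab.qu) (mem_side.1 hw).1]
        exact s1 _ (hmem w hw)
      · simp only [dif_pos hw, dif_pos hw', dif_pos ((side (sideQ Q u z) a b).add_mem hw hw')]
        exact Subtype.ext (s2 _ (hmem w hw) _ (hmem w' hw'))
      · simp only [dif_pos hw, dif_pos (act_mem_side (σ' g) ga gb hw)]
        have e : ∀ x : side Q u z, act (σ (g : E)) (x : V) = ((act (σ' g) x : side Q u z) : V) := fun x => by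
          rw [← hσ', emb_side]
        refine Subtype.ext ?_
        show (g : E) * s w * (g : E)⁻¹ = s ((act (σ' g) w : side Q u z) : V)
        rw [← e]
        exact s3 g (by rw [e, ga]) (by rw [e, gb]) _ (hmem w hw)
    obtain ⟨K', hK1, hK2⟩ := ih (side Q u z) (sideQ Q u z) R σ' hS' P.tail
    obtain ⟨s, s1, s2, s3⟩ := hS u z h
    have hzero : s 0 = 1 := by
      have := s2 0 (zero_mem _) 0 (zero_mem _)
      rw [add_zero] at this
      exact left_eq_mul.1 this
    have hfix : ∀ k : R, act (σ (k : E)) u = u ∧ act (σ (k : E)) z = z := fun k => by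
      rw [← hσ']; exact ⟨emb_fst h _, emb_snd h _⟩
    have hconj : ∀ (k : R) (w : side Q u z), (k : E) * s w * (k : E)⁻¹ =
        s ((⟨_, act_mem_side _ (hfix k).1 (hfix k).2 w.2⟩ : side Q u z) : V) := fun k w =>
      s3 k (hfix k).1 (hfix k).2 _ w.2
    let K : Subgroup E :=
      { carrier := {x | ∃ w : side Q u z, ∃ k ∈ K', x = s w * (k : E)}
        one_mem' := ⟨0, 1, one_mem _, by simp [hzero]⟩
        mul_mem' := by
          rintro _ _ ⟨w, k, hk, rfl⟩ ⟨w', k', hk', rfl⟩
          refine ⟨w + ⟨_, act_mem_side _ (hfix k).1 (hfix k).2 w'.2⟩, k * k', mul_mem hk hk', ?_⟩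
          rw [Submodule.coe_add, s2 _ w.2 _ (Subtype.property _), ← hconj, Subgroup.coe_mul]
          group
        inv_mem' := by
          rintro _ ⟨w, k, hk, rfl⟩
          refine ⟨⟨_, act_mem_side _ (hfix k⁻¹).1 (hfix k⁻¹).2 (-w).2⟩, k⁻¹, inv_mem hk, ?_⟩
          rw [← hconj, Subgroup.coe_inv]
          have e : s (w : V) * s ((-w : side Q u z) : V) = 1 := by
            rw [← s2 _ w.2 _ (-w).2, Submodule.coe_neg, add_neg_cancel, hzero]
          rw [eq_inv_of_mul_eq_one_right e]
          group }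
    have hdis : ∀ (w : side Q u z) (k : R), k ∈ K' → σ (s w * (k : E)) = 1 → w = 0 ∧ k = 1 := by
      intro w k hk e
      rw [map_mul, s1 _ w.2] at e
      obtain ⟨w1, w2⟩ := mem_side.1 w.2
      have hz : act (eG Q u (w : V)) z = z := by
        have e' := congrArg (fun g => act g z) e
        simp only [act_mul, act_one, (hfix k).2] at e'
        exact e'
      rw [eG_apply h.qu w1, h.zu, one_smul, w2, zero_add, mul_one] at hz
      have e1 : (w : V) = Q (w : V) • u := by
        have : z + (w : V) - Q (w : V) • u - z = 0 := sub_eq_zero.2 hz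
        rw [← sub_eq_zero]
        rw [← this]
        abel
      have hQw : Q (w : V) = 0 := by
        rw [e1, QuadraticMap.polar_smul_right, h.zu, smul_eq_mul, mul_one] at w2
        exact w2
      have hw0 : w = 0 := Subtype.ext (by rw [e1, hQw, zero_smul]; rfl)
      subst hw0
      refine ⟨rfl, hK1 k hk (emb_injective h ?_)⟩
      rw [hσ', map_one]
      rw [Submodule.coe_zero, eG_zero h.qu, one_mul] at e
      exact e
    refine ⟨K, ?_, ?_⟩
    · rintro _ ⟨w, k, hk, rfl⟩ e
      obtain ⟨rfl, rfl⟩ := hdis w k hk e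
      simp [hzero]
    · have hinj : Function.Injective (fun x : side Q u z × K' => s (x.1 : V) * ((x.2 : R) : E)) := by
        rintro ⟨w, k⟩ ⟨w', k'⟩ e
        have e2 : σ (s ((w - w' : side Q u z) : V) * ((k : R) : E) * ((k' : R) : E)⁻¹) = 1 := by
          have e3 : s ((w - w' : side Q u z) : V) = (s (w' : V))⁻¹ * s (w : V) := by
            rw [eq_inv_mul_iff_mul_eq, ← s2 _ w'.2 _ (w - w').2, Submodule.coe_sub, add_sub_cancel]
          simp only at e
          rw [e3, mul_assoc (s (w' : V))⁻¹, e, ← mul_assoc, inv_mul_cancel, one_mul, mul_inv_cancel, map_one]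
        rw [mul_assoc, ← Subgroup.coe_inv, ← Subgroup.coe_mul] at e2
        obtain ⟨e4, e5⟩ := hdis _ _ (mul_mem k.2 (inv_mem k'.2)) e2
        exact Prod.ext (sub_eq_zero.1 e4) (Subtype.ext (mul_inv_eq_one.1 e5))
      have hcard : Nat.card (side Q u z × K') = Nat.card K :=
        Nat.card_congr (Equiv.ofBijective (fun x => ⟨_, x.1, x.2.1, x.2.2, rfl⟩)
          ⟨fun a b e => hinj (congrArg Subtype.val e), fun ⟨_, w, k, hk, rfl⟩ => ⟨(w, ⟨k, hk⟩), rfl⟩⟩)
      rw [← hcard, Nat.card_prod, hK2, Module.natCard_eq_pow_finrank (K := F), Nat.card_eq_fintype_card,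
        ← pow_add]
      congr 1
      have := finrank_side h
      have : 2 * m ≤ Module.finrank F (side Q u z) := Frame.two_mul_le P.tail
      have e : Module.finrank F V - (m + 1) - 1 = Module.finrank F (side Q u z) - m := by omega
      rw [e]
      rcases Nat.eq_zero_or_pos m with h0 | h0
      · subst h0; simp
      · obtain ⟨r, hr⟩ : ∃ r, Module.finrank F (side Q u z) = m + 1 + r := ⟨_, (Nat.add_sub_cancel'
          (by omega)).symm⟩
        rw [hr, show m + 1 + r - m - 1 = r by omega, show m + 1 + r - m = 1 + r by omega]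
        ring

/-- A section over a subgroup of index prime to `p` removes `p`-kernels from the derived subgroup. -/
theorem ker_commutator_eq_one_of_complement {E : Type w} [Group E] [Finite E] {G : Type v} [Group G]
    {σ : E →* G} (hσ : Function.Surjective σ) (hc : σ.ker ≤ Subgroup.center E) {p : ℕ} (hp : p.Prime)
    (hk : IsPGroup p σ.ker) {K : Subgroup E} (hK : ∀ k ∈ K, σ k = 1 → k = 1)
    (hidx : ¬ p ∣ (K.map σ).index) : ∀ z ∈ σ.ker, z ∈ commutator E → z = 1 := by
  classical
  intro z hz hzc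
  let ι : K →* K.map σ := (σ.comp K.subtype).codRestrict (K.map σ) fun k => Subgroup.mem_map_of_mem σ k.2
  have hι : Function.Bijective ι := by
    refine ⟨(injective_iff_map_eq_one _).2 fun k e => Subtype.ext (hK k k.2 (congrArg Subtype.val e)), ?_⟩
    rintro ⟨_, k, hk, rfl⟩
    exact ⟨⟨k, hk⟩, rfl⟩
  let eι := MulEquiv.ofBijective ι hι
  set R := (K.map σ).comap σ with hR
  let back : R →* E := K.subtype.comp (eι.symm.toMonoidHom.comp
    ((σ.comp R.subtype).codRestrict (K.map σ) fun x => x.2))
  have hback : ∀ x : R, σ (back x) = σ x := fun x =>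
    congrArg Subtype.val (eι.apply_symm_apply ⟨σ x, x.2⟩)
  have hmem : ∀ x : R, (back x)⁻¹ * (x : E) ∈ σ.ker := fun x => by
    rw [MonoidHom.mem_ker, map_mul, map_inv, hback, inv_mul_cancel]
  letI : CommGroup σ.ker := { (inferInstance : Group σ.ker) with
    mul_comm := fun a b => Subtype.ext (Subgroup.mem_center_iff.1 (hc b.2) a) }
  let π : R →* σ.ker := MonoidHom.mk' (fun x => ⟨(back x)⁻¹ * (x : E), hmem x⟩) fun a b => Subtype.ext (by
    show (back (a * b))⁻¹ * ((a * b : R) : E) = (back a)⁻¹ * a * ((back b)⁻¹ * b)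
    rw [map_mul, mul_inv_rev, Subgroup.coe_mul,
      show (back b)⁻¹ * (back a)⁻¹ * ((a : E) * b) = (back b)⁻¹ * ((back a)⁻¹ * a) * b by group,
      Subgroup.mem_center_iff.1 (hc (hmem a)) (back b)⁻¹, mul_assoc])
  have key : ∀ (j : ℕ) (g₀ : E), g₀⁻¹ * z ^ j * g₀ ∈ R → g₀⁻¹ * z ^ j * g₀ = z ^ j := fun j g₀ _ => by
    rw [mul_assoc, ← Subgroup.mem_center_iff.1 (pow_mem (hc hz) j) g₀, inv_mul_cancel_left]
  have h1 : MonoidHom.transfer π z = 1 :=
    Abelianization.commutator_subset_ker (MonoidHom.transfer π) hzc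
  rw [MonoidHom.transfer_eq_pow π z key] at h1
  have hzp : σ (z ^ R.index) = 1 := by rw [map_pow, MonoidHom.mem_ker.1 hz, one_pow]
  have h2 : back ⟨z ^ R.index, MonoidHom.transfer_eq_pow_aux z key⟩ = 1 :=
    hK _ (eι.symm _).2 (by rw [← hzp]; exact hback _)
  have h3 : z ^ R.index = 1 := by
    have := congrArg Subtype.val h1
    change (back _)⁻¹ * z ^ R.index = 1 at this
    rwa [h2, inv_one, one_mul] at this
  obtain ⟨j, hj⟩ := hk ⟨z, hz⟩
  have hj' : orderOf z ∣ p ^ j := orderOf_dvd_of_pow_eq_one (congrArg Subtype.val hj)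
  have hd : orderOf z ∣ R.index := orderOf_dvd_of_pow_eq_one h3
  rw [hR, Subgroup.index_comap_of_surjective _ hσ] at hd
  have hco : Nat.Coprime (p ^ j) (K.map σ).index := Nat.Coprime.pow_left j (hp.coprime_iff_not_dvd.2 hidx)
  exact orderOf_eq_one_iff.1 (Nat.eq_one_of_dvd_coprimes hco hj' hd)

variable [Fintype F] [FiniteDimensional F V]

/-- Central extensions of an Eichler group with `p`-kernels are split on the derived subgroup. -/
theorem ker_commutator_eq_one (hQ : PolarNondeg Q) (hn : 6 ≤ Module.finrank F V) {p : ℕ} (hp : p.Prime)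
    [CharP F p] (hsmall : Fintype.card F ≤ 3 → 8 ≤ Module.finrank F V) (hN : NoFour Q) {m : ℕ}
    (P : Frame Q m) {c : ℕ} (hcard : Nat.card (eichGroup Q) = Fintype.card F ^ (m * (Module.finrank F V - m - 1)) * c)
    (hpc : ¬ p ∣ c) {E : Type w} [Group E] [Finite E] {σ : E →* eichGroup Q} (hx : PExt σ p) :
    ∀ z ∈ σ.ker, z ∈ commutator E → z = 1 := by
  obtain ⟨K, hK1, hK2⟩ := exists_complement m V Q E σ (fun u z h => exists_sect hx hQ hn hp hsmall hN h) P
  refine ker_commutator_eq_one_of_complement hx.surj hx.cen hp hx.pker hK1 fun hd => hpc ?_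
  have h1 := Subgroup.card_mul_index (K.map σ)
  have h2 : Nat.card (K.map σ) = Nat.card K := by
    refine (Nat.card_congr (Equiv.ofBijective (fun k : K => (⟨σ k, Subgroup.mem_map_of_mem σ k.2⟩ : K.map σ))
      ⟨fun a b e => ?_, ?_⟩)).symm
    · refine Subtype.ext (mul_inv_eq_one.1 (hK1 _ (mul_mem a.2 (inv_mem b.2)) ?_))
      rw [map_mul, map_inv, mul_inv_eq_one]
      exact congrArg Subtype.val e
    · rintro ⟨_, k, hk, rfl⟩
      exact ⟨⟨k, hk⟩, rfl⟩
  rw [h2, hK2, hcard] at h1
  rwa [Nat.eq_of_mul_eq_mul_left (pow_pos Fintype.card_pos _) h1] at hd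

end CfsgLib.Known.OrthLift
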